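import Mathlib
import Cfsg.Prelude.Def_Classical
import Cfsg.Agent.Lib.Classical.Symplectic

/-!
# Symplectic groups over the field with two elements: transvections and quadratic forms
-/

set_option autoImplicit false
set_option linter.unusedSectionVars false

namespace Cfsg.Agent.MinIndexSp

open Matrix Cfsg.Agent.Forms.SympStd Cfsg.Agent.Classical.Symplectic

variable {F : Type*} [Field F] [Fintype F] {m : ℕ}

local notation "Vec" => (Fin m ⊕ Fin m → F)
local notation "Mat" => Matrix (Fin m ⊕ Fin m) (Fin m ⊕ Fin m) F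
local notation "Sp" => symplecticGroup (Fin m) F
local notation "f" => Cfsg.sympForm m F

theorem char_two (h2 : Fintype.card F = 2) : CharP F 2 := by
  obtain ⟨p, hp⟩ := CharP.exists F
  obtain ⟨n, hpp, hn⟩ := FiniteField.card F p
  rw [h2] at hn
  obtain rfl : p = 2 := ((Nat.prime_dvd_prime_iff_eq hpp Nat.prime_two).1
    (hn ▸ dvd_pow_self p n.pos.ne'))
  exact hp

theorem scalar_cases (h2 : Fintype.card F = 2) (x : F) : x = 0 ∨ x = 1 := by
  classical
  have h : (Finset.univ : Finset F) = {0, 1} :=
    (Finset.eq_univ_of_card _ (by rw [Finset.card_pair zero_ne_one, h2])).symm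
  have hx := Finset.mem_univ x
  rw [h] at hx
  simpa using hx

theorem eq_one (h2 : Fintype.card F = 2) {x : F} (h : x ≠ 0) : x = 1 :=
  (scalar_cases h2 x).resolve_left h

theorem sc_add_self (h2 : Fintype.card F = 2) (x : F) : x + x = 0 := by
  have := char_two h2
  exact CharTwo.add_self_eq_zero x

theorem sc_neg (h2 : Fintype.card F = 2) (x : F) : -x = x :=
  neg_eq_of_add_eq_zero_left (sc_add_self h2 x)

theorem vec_add_self (h2 : Fintype.card F = 2) (v : Vec) : v + v = 0 :=
  funext fun i => sc_add_self h2 (v i)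

theorem vec_add_eq_zero (h2 : Fintype.card F = 2) {u v : Vec} : u + v = 0 ↔ u = v := by
  constructor
  · intro h
    calc u = u + (v + v) := by rw [vec_add_self h2, add_zero]
      _ = u + v + v := (add_assoc _ _ _).symm
      _ = v := by rw [h, zero_add]
  · rintro rfl; exact vec_add_self h2 u

theorem f_comm (h2 : Fintype.card F = 2) (u v : Vec) : f v u = f u v := by
  rw [sympForm_swap, sc_neg h2]

theorem f_zero_left (v : Vec) : f 0 v = 0 := by
  rw [← sympB_apply, map_zero, LinearMap.zero_apply]

theorem f_zero_right (v : Vec) : f v 0 = 0 := by rw [← sympB_apply, map_zero]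

theorem exists_dual (ℓ : Vec →ₗ[F] F) : ∃ u, ∀ x, f u x = ℓ x := by
  have hinj : Function.Injective (sympB m F) := by
    rw [← LinearMap.ker_eq_bot, LinearMap.ker_eq_bot']
    exact fun u hu => sympB_nondegenerate.1 u fun w => by rw [hu]; rfl
  have hsur : Function.Surjective (sympB m F) :=
    (LinearMap.injective_iff_surjective_of_finrank_eq_finrank (Subspace.dual_finrank_eq).symm).1 hinj
  obtain ⟨u, hu⟩ := hsur ℓ
  exact ⟨u, fun x => by rw [← hu, sympB_apply]⟩

theorem exists_dual_on (D : Submodule F Vec) (ℓ : D →ₗ[F] F) : ∃ u, ∀ x : D, f u x = ℓ x := by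
  obtain ⟨g, hg⟩ := ℓ.exists_extend
  obtain ⟨u, hu⟩ := exists_dual g
  exact ⟨u, fun x => by rw [hu, ← hg]; rfl⟩

theorem exists_avoid {D : Submodule F Vec} {b : Vec} (hb : b ∉ D) :
    ∃ u, (∀ x ∈ D, f u x = 0) ∧ f u b ≠ 0 := by
  obtain ⟨φ, hφ, hD⟩ := Submodule.exists_dual_map_eq_bot_of_notMem hb inferInstance
  obtain ⟨u, hu⟩ := exists_dual φ
  refine ⟨u, fun x hx => ?_, by rw [hu]; exact hφ⟩
  rw [hu]
  exact (Submodule.eq_bot_iff _).1 hD _ ⟨x, hx, rfl⟩

/-- The transvection with given centre. -/
def T (v : Vec) : Sp := tv v 1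

theorem T_apply (v x : Vec) : (T v : Mat) *ᵥ x = x + f x v • v := by
  rw [T, tv_mulVec, one_mul]

theorem T_smul (v x : Vec) : T v • x = x + f x v • v := by
  rw [smul_eq, T_apply]

theorem T_zero : T (0 : Vec) = 1 := sp_ext fun x => by simp [T_apply]

theorem T_sq (h2 : Fintype.card F = 2) (v : Vec) : T v * T v = 1 := by
  rw [T, tv_mul, sc_add_self h2, tv_zero]

theorem T_inv (h2 : Fintype.card F = 2) (v : Vec) : (T v)⁻¹ = T v :=
  inv_eq_of_mul_eq_one_right (T_sq h2 v)

theorem T_conj (A : Sp) (v : Vec) : A * T v * A⁻¹ = T ((A : Mat) *ᵥ v) := tv_conj A v 1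

theorem T_comm (h2 : Fintype.card F = 2) {u v : Vec} (h : f u v = 0) : T u * T v = T v * T u := by
  have h3 := T_conj (T u) v
  rw [T_apply, f_comm h2, h, zero_smul, add_zero] at h3
  exact mul_inv_eq_iff_eq_mul.1 h3

theorem tv_eq (h2 : Fintype.card F = 2) (v : Vec) (c : F) : tv v c = 1 ∨ tv v c = T v := by
  rcases scalar_cases h2 c with rfl | rfl
  · exact Or.inl (tv_zero v)
  · exact Or.inr rfl

/-- The transvections generate. -/
theorem closure_T (h2 : Fintype.card F = 2) :
    Subgroup.closure (Set.range (T : Vec → Sp)) = ⊤ := by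
  rw [eq_top_iff, ← closure_tvSet_eq_top, Subgroup.closure_le]
  rintro A ⟨w, c, -, hA⟩
  have e : A = tv w c := Subtype.ext hA
  rcases tv_eq h2 w c with h | h <;> rw [e, h]
  · exact one_mem _
  · exact Subgroup.subset_closure ⟨w, rfl⟩

/-- A quadratic form whose polar form is the symplectic form. -/
def phi (x : Vec) : F := ∑ i, x (Sum.inl i) * x (Sum.inr i)

theorem phi_add (h2 : Fintype.card F = 2) (x y : Vec) : phi (x + y) = phi x + phi y + f x y := by
  rw [sympForm_eq, phi, phi, phi, ← Finset.sum_add_distrib, ← Finset.sum_add_distrib]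
  refine Finset.sum_congr rfl fun i _ => ?_
  simp only [Pi.add_apply, sub_eq_add_neg, sc_neg h2]
  ring

theorem phi_zero : phi (0 : Vec) = 0 := by simp [phi]

/-- The quadratic forms with the same polar form. -/
def phiU (u x : Vec) : F := phi x + f u x

theorem phiU_add (h2 : Fintype.card F = 2) (u x y : Vec) :
    phiU u (x + y) = phiU u x + phiU u y + f x y := by
  rw [phiU, phiU, phiU, phi_add h2, f_add_right]; ring

theorem phiU_smul (h2 : Fintype.card F = 2) (u : Vec) (c : F) (x : Vec) :
    phiU u (c • x) = c * phiU u x := by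
  rcases scalar_cases h2 c with rfl | rfl
  · simp [phiU, phi_zero, f_zero_right]
  · simp

/-- Moving a quadratic form by a transvection at one of its zeros. -/
theorem phiU_T (h2 : Fintype.card F = 2) {u v : Vec} (hv : phiU u v = 0) (x : Vec) :
    phiU u (x + f x v • v) = phiU (u + v) x := by
  rw [phiU_add h2, phiU_smul h2, hv, mul_zero, add_zero, f_smul_right]
  rw [phiU, phiU, f_add_left, f_comm h2 x v]
  rcases scalar_cases h2 (f x v) with h | h <;> rw [h] <;> ring

end Cfsg.Agent.MinIndexSp
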