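import Cfsg.Agent.Lib.MinIndexSp.Basic

/-!
# Counting the zeros of the quadratic forms with given polar form
-/

set_option autoImplicit false
set_option linter.unusedSectionVars false

namespace Cfsg.Agent.MinIndexSp

open Matrix Cfsg.Agent.Forms.SympStd Cfsg.Agent.Classical.Symplectic

open scoped _root_.Classical

variable {F : Type*} [Field F] [Fintype F] {m : ℕ}

local notation "Vec" => (Fin m ⊕ Fin m → F)
local notation "Sp" => symplecticGroup (Fin m) F
local notation "f" => Cfsg.sympForm m F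

/-- The sign of a scalar. -/
noncomputable def sg (x : F) : ℤ := if x = 0 then 1 else -1

theorem sg_add (h2 : Fintype.card F = 2) (x y : F) : sg (x + y) = sg x * sg y := by
  rcases scalar_cases h2 x with rfl | rfl <;> rcases scalar_cases h2 y with rfl | rfl <;>
    simp [sg, sc_add_self h2]

theorem sg_sq (x : F) : sg x * sg x = 1 := by
  rw [sg]; split_ifs <;> norm_num

theorem card_vec (h2 : Fintype.card F = 2) : Fintype.card Vec = 4 ^ m := by
  rw [Fintype.card_fun, Fintype.card_sum, Fintype.card_fin, h2, show (4 : ℕ) = 2 * 2 from rfl,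
    mul_pow, ← pow_add]

/-- The signed count of the values of a quadratic form. -/
noncomputable def sgnSum (u : Vec) : ℤ := ∑ x : Vec, sg (phiU u x)

theorem sum_sg_form (h2 : Fintype.card F = 2) (w : Vec) :
    (∑ x : Vec, sg (f x w)) = if w = 0 then (4 ^ m : ℤ) else 0 := by
  split_ifs with hw
  · subst hw
    simp only [f_zero_right]
    simp [sg, card_vec h2]
  · obtain ⟨z, hz⟩ := exists_partner hw
    have h : (∑ x : Vec, sg (f x w)) = -(∑ x : Vec, sg (f x w)) := by
      conv_lhs => rw [← Equiv.sum_comp (Equiv.addRight z)]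
      rw [← Finset.sum_neg_distrib]
      refine Finset.sum_congr rfl fun x _ => ?_
      rw [Equiv.coe_addRight, f_add_left, sg_add h2, f_comm h2 w z, hz]
      simp [sg]
    linarith

theorem sgnSum_sq (h2 : Fintype.card F = 2) (u : Vec) :
    sgnSum u * sgnSum u = 4 ^ m := by
  have key : ∀ x w : Vec, sg (phiU u x) * sg (phiU u (x + w)) = sg (phiU u w) * sg (f x w) := by
    intro x w
    rw [phiU_add h2, sg_add h2, sg_add h2, ← mul_assoc, ← mul_assoc, sg_sq, one_mul]
  have h1 : sgnSum u * sgnSum u = ∑ x : Vec, ∑ w : Vec, sg (phiU u w) * sg (f x w) := by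
    rw [sgnSum, Finset.sum_mul_sum]
    refine Finset.sum_congr rfl fun x _ => ?_
    rw [← Equiv.sum_comp (Equiv.addLeft x)]
    exact Finset.sum_congr rfl fun w _ => key x w
  rw [h1, Finset.sum_comm]
  simp only [← Finset.mul_sum, sum_sg_form h2]
  rw [Finset.sum_eq_single 0 (fun w _ hw => by rw [if_neg hw, mul_zero])
    (fun h => absurd (Finset.mem_univ _) h), if_pos rfl]
  simp [phiU, phi_zero, f_zero_right, sg]

theorem sgnSum_cases (h2 : Fintype.card F = 2) (u : Vec) :
    sgnSum u = 2 ^ m ∨ sgnSum u = -2 ^ m := by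
  refine mul_self_eq_mul_self_iff.1 ?_
  rw [sgnSum_sq h2, ← mul_pow]
  norm_num

theorem two_mul_zeros (h2 : Fintype.card F = 2) (u : Vec) :
    (2 * Nat.card {x : Vec // phiU u x = 0} : ℤ) = 4 ^ m + sgnSum u := by
  rw [Nat.card_eq_fintype_card, Fintype.card_subtype]
  have h : ∀ x : Vec, sg (phiU u x) = 2 * (if phiU u x = 0 then 1 else 0) - 1 := by
    intro x; rw [sg]; split_ifs <;> norm_num
  rw [sgnSum, Finset.sum_congr rfl fun x _ => h x, Finset.sum_sub_distrib, ← Finset.mul_sum,
    Finset.sum_boole]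
  simp [card_vec h2]

/-- A quadratic form has at least `2^(m-1) (2^m - 1)` zeros. -/
theorem zeros_ge (h2 : Fintype.card F = 2) (u : Vec) :
    4 ^ m ≤ 2 * Nat.card {x : Vec // phiU u x = 0} + 2 ^ m := by
  have h := two_mul_zeros h2 u
  zify
  rcases sgnSum_cases h2 u with e | e <;> rw [e] at h <;>
    have h3 : (0 : ℤ) ≤ 2 ^ m := by positivity
  · linarith
  · linarith

theorem zeros_minus (h2 : Fintype.card F = 2) {u : Vec} (hu : sgnSum u = -2 ^ m) :
    2 * Nat.card {x : Vec // phiU u x = 0} + 2 ^ m = 4 ^ m := by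
  have h := two_mul_zeros h2 u
  rw [hu] at h
  zify
  linarith

theorem count_minus (h2 : Fintype.card F = 2) :
    2 * Nat.card {u : Vec // sgnSum u = -2 ^ m} + 2 ^ m = 4 ^ m := by
  have hsum : (∑ u : Vec, sgnSum u) = 4 ^ m := by
    simp only [sgnSum]
    rw [Finset.sum_comm]
    simp only [phiU, sg_add h2, ← Finset.mul_sum, sum_sg_form h2]
    rw [Finset.sum_eq_single 0 (fun w _ hw => by rw [if_neg hw, mul_zero])
      (fun h => absurd (Finset.mem_univ _) h), if_pos rfl]
    simp [phi_zero, sg]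
  rw [Nat.card_eq_fintype_card, Fintype.card_subtype]
  set P := Finset.univ.filter fun u : Vec => sgnSum u = -2 ^ m
  have h : ∀ u : Vec, sgnSum u = 2 ^ m * (1 - 2 * if sgnSum u = -2 ^ m then 1 else 0) := by
    intro u
    split_ifs with hu
    · rw [hu]; ring
    · rw [(sgnSum_cases h2 u).resolve_right hu]; ring
  have h3 : (4 : ℤ) ^ m = 2 ^ m * (4 ^ m - 2 * P.card) := by
    conv_lhs => rw [← hsum, Finset.sum_congr rfl fun u _ => h u, ← Finset.mul_sum, Finset.sum_sub_distrib,
      ← Finset.mul_sum, Finset.sum_boole]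
    simp [card_vec h2, P]
  have h4 : (4 : ℤ) ^ m = 2 ^ m * 2 ^ m := by rw [← mul_pow]; norm_num
  have h5 : (4 : ℤ) ^ m - 2 * P.card = 2 ^ m := by
    have hp : (2 : ℤ) ^ m ≠ 0 := pow_ne_zero _ (by norm_num)
    refine mul_left_cancel₀ hp ?_
    rw [← h3, h4]
  zify
  linarith

end Cfsg.Agent.MinIndexSp
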