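import Cfsg.Agent.Lib.MinIndexSp.Step

/-!
# The minimal index of a proper subgroup of `PSp_{2m}(2)`
-/

set_option autoImplicit false
set_option linter.unusedSectionVars false

namespace Cfsg.Agent.MinIndexSp

open Matrix Cfsg.Agent.Forms.SympStd Cfsg.Agent.Classical.Symplectic

open scoped _root_.Classical

universe u

variable {F : Type u} [Field F] [Fintype F] {m : ℕ}

local notation "Vec" => (Fin m ⊕ Fin m → F)
local notation "Sp" => symplecticGroup (Fin m) F
local notation "f" => Cfsg.sympForm m F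

theorem index_ge (h2 : Fintype.card F = 2) (hm : 3 ≤ m) (H : Subgroup (symplecticGroup (Fin m) F)) (hH : H ≠ ⊤) :
    4 ^ m ≤ 2 * H.index + 2 ^ m := by
  have : Finite Sp := Subtype.finite
  have hs := isSimple h2 hm
  set a : Vec := Pi.single (Sum.inl ⟨0, by omega⟩) 1 with ha
  set b : Vec := Pi.single (Sum.inl ⟨1, by omega⟩) 1 with hb
  have hab : f a b = 0 := sympForm_inl_inl _ _
  have han : a ≠ 0 := by simp [ha]
  have hbn : b ≠ 0 := by simp [hb]
  have hne : T a * T b ≠ 1 := by
    intro h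
    obtain ⟨z, hz⟩ := exists_partner hbn
    have h1 := congrArg (fun g : Sp => g • z) h
    simp only [mul_smul, one_smul, T_smul] at h1
    rw [f_comm h2 b z, hz, one_smul, f_add_left, f_comm h2 a b, hab, add_zero, add_assoc, add_eq_left] at h1
    rcases scalar_cases h2 (f z a) with e | e <;> rw [e] at h1
    · rw [zero_smul, add_zero] at h1; exact hbn h1
    · rw [one_smul] at h1
      have h3 := congrFun ((vec_add_eq_zero h2).1 h1) (Sum.inl ⟨0, by omega⟩)
      simp [ha, hb, Fin.ext_iff] at h3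
  obtain ⟨x, hx⟩ : ∃ x : Sp ⧸ H, (T a * T b) • x ≠ x := by
    by_contra hcon
    push Not at hcon
    have hker : T a * T b ∈ H.normalCore := by
      rw [Subgroup.normalCore_eq_ker]
      exact MonoidHom.mem_ker.2 (Equiv.ext hcon)
    rcases hs.eq_bot_or_eq_top_of_normal H.normalCore inferInstance with h | h
    · rw [h, Subgroup.mem_bot] at hker; exact hne hker
    · exact hH (top_le_iff.1 (h ▸ Subgroup.normalCore_le H))
  have h := low_all.{u, u} F h2 m (by omega) (Sp ⧸ H) x ⟨a, b, han, hbn, hab, hx⟩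
  rwa [MulAction.orbit_eq_univ, Nat.card_univ, ← Subgroup.index_eq_card] at h

theorem exists_index (h2 : Fintype.card F = 2) (hm : 1 ≤ m) :
    ∃ H : Subgroup (symplecticGroup (Fin m) F), 2 * H.index + 2 ^ m = 4 ^ m := by
  have hP := count_minus (F := F) (m := m) h2
  set P := {u : Vec // sgnSum u = -2 ^ m}
  have hlt : 2 ^ m < 4 ^ m := Nat.pow_lt_pow_left (by norm_num) (by omega)
  obtain ⟨u₀, hu₀⟩ : Nonempty P := by
    by_contra h
    rw [not_nonempty_iff] at h
    rw [Nat.card_of_isEmpty] at hP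
    omega
  letI act : MulAction Sp (Vec → F) :=
    { smul := fun g φ x => φ (g⁻¹ • x)
      one_smul := fun φ => funext fun x => by show φ ((1 : Sp)⁻¹ • x) = φ x; rw [inv_one, one_smul]
      mul_smul := fun g h φ => funext fun x => by
        show φ ((g * h)⁻¹ • x) = φ (h⁻¹ • g⁻¹ • x); rw [_root_.mul_inv_rev, mul_smul] }
  have hact : ∀ (g : Sp) (φ : Vec → F) (x : Vec), (g • φ) x = φ (g⁻¹ • x) := fun _ _ _ => rfl
  refine ⟨MulAction.stabilizer Sp (phiU u₀ : Vec → F), ?_⟩
  rw [MulAction.index_stabilizer]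
  set Orb := MulAction.orbit Sp (phiU u₀ : Vec → F)
  have hinj : Function.Injective (phiU : Vec → Vec → F) := by
    intro u v h
    rw [← vec_add_eq_zero h2]
    refine sympB_nondegenerate.1 _ fun w => ?_
    have := congrFun h w
    rw [phiU, phiU, add_right_inj] at this
    rw [sympB_apply, f_add_left, this, sc_add_self h2]
  have hsub : Orb ⊆ phiU '' {u : Vec | sgnSum u = -2 ^ m} := by
    rintro φ ⟨g, rfl⟩
    let ℓ : Vec →ₗ[F] F :=
      { toFun := fun x => phiU u₀ (g⁻¹ • x) + phi x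
        map_add' := fun x y => by
          rw [show g⁻¹ • (x + y) = g⁻¹ • x + g⁻¹ • y by simp only [smul_eq, Matrix.mulVec_add],
            phiU_add h2, phi_add h2]
          have e : f (g⁻¹ • x) (g⁻¹ • y) = f x y := by rw [smul_eq, smul_eq, sympForm_mulVec]
          rw [e]
          calc _ = phiU u₀ (g⁻¹ • x) + phi x + (phiU u₀ (g⁻¹ • y) + phi y) + (f x y + f x y) := by ring
            _ = _ := by rw [sc_add_self h2, add_zero]
        map_smul' := fun c x => by
          rcases scalar_cases h2 c with rfl | rfl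
          · simp [smul_eq, phiU, phi_zero, f_zero_right]
          · simp }
    obtain ⟨u, hu⟩ := exists_dual ℓ
    have e : (g • (phiU u₀ : Vec → F)) = phiU u := by
      funext x
      rw [hact, phiU, phiU, hu]
      show phi (g⁻¹ • x) + f u₀ (g⁻¹ • x) = phi x + (phiU u₀ (g⁻¹ • x) + phi x)
      rw [phiU]
      calc _ = phi (g⁻¹ • x) + f u₀ (g⁻¹ • x) + (phi x + phi x) := by rw [sc_add_self h2, add_zero]
        _ = _ := by ring
    refine ⟨u, ?_, e.symm⟩
    show sgnSum u = -2 ^ m
    rw [← hu₀, sgnSum, sgnSum, ← e, ← Equiv.sum_comp (MulAction.toPerm g⁻¹) (fun x => sg (phiU u₀ x))]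
    exact Finset.sum_congr rfl fun x _ => rfl
  have hsup : (fun v => phiU (u₀ + v)) '' {v : Vec | phiU u₀ v = 0} ⊆ Orb := by
    rintro φ ⟨v, hv, rfl⟩
    refine ⟨T v, funext fun x => ?_⟩
    show (T v • (phiU u₀ : Vec → F)) x = _
    rw [hact, T_inv h2, T_smul, phiU_T h2 hv]
  have h1 := Set.ncard_le_ncard hsub (Set.toFinite _)
  rw [Set.ncard_image_of_injective _ hinj] at h1
  have h3 := Set.ncard_le_ncard hsup (Set.toFinite _)
  have hi : Function.Injective (fun v : Vec => phiU (u₀ + v)) := fun v w h => add_left_cancel (hinj h)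
  rw [Set.ncard_image_of_injective _ hi] at h3
  have hz := zeros_minus (m := m) h2 hu₀
  have e1 : {u : Vec | sgnSum u = -2 ^ m}.ncard = Nat.card P := (Nat.card_coe_set_eq _).symm
  have e3 : {v : Vec | phiU u₀ v = 0}.ncard = Nat.card {v : Vec // phiU u₀ v = 0} := (Nat.card_coe_set_eq _).symm
  omega

theorem value_eq {m n : ℕ} (hm : 1 ≤ m) :
    (4 ^ m ≤ 2 * n + 2 ^ m → 2 ^ (m - 1) * (2 ^ m - 1) ≤ n) ∧
      (2 * n + 2 ^ m = 4 ^ m → n = 2 ^ (m - 1) * (2 ^ m - 1)) := by
  obtain ⟨k, rfl⟩ := Nat.exists_eq_add_of_le' hm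
  have e : 4 ^ (k + 1) = 2 * (2 ^ k * (2 ^ (k + 1) - 1)) + 2 ^ (k + 1) := by
    have h1 : 1 ≤ 2 ^ (k + 1) := Nat.one_le_two_pow
    zify [h1]
    rw [show (4 : ℤ) = 2 * 2 by norm_num, mul_pow, pow_succ]
    ring
  rw [Nat.add_sub_cancel]
  constructor <;> intro h <;> omega

end Cfsg.Agent.MinIndexSp
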