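import Cfsg.Agent.Lib.MinIndexSp.Radical
import Cfsg.Agent.Lib.MinIndexSp.Count

/-!
# The orbits of the radical and their characters

An orbit `o` of the radical determines the set `uSet o` of the linear functionals and the set `phSet o` of the
quadratic forms that vanish, in the appropriate sense, on its stabiliser; the length of the orbit is the sum
of the two cardinalities.
-/

set_option autoImplicit false
set_option linter.unusedSectionVars false

namespace Cfsg.Agent.MinIndexSp

open Matrix Cfsg.Agent.Forms.SympStd Cfsg.Agent.Classical.Symplectic Cfsg.Agent.ShortPres.Symp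

open scoped _root_.Classical

variable {F : Type*} [Field F] [Fintype F] {r : ℕ}

local notation "W" => (Fin r ⊕ Fin r → F)
local notation "SpW" => symplecticGroup (Fin r) F
local notation "Sp" => symplecticGroup (Fin (r + 1)) F
local notation "fW" => Cfsg.sympForm r F

variable {Ω : Type*} [MulAction (symplecticGroup (Fin (r + 1)) F) Ω]

/-- The orbit of a point under the radical. -/
noncomputable def orb (y : Ω) : Finset Ω := Finset.univ.image fun p : W × F => beta p • y

theorem mem_orb {y z : Ω} : z ∈ orb (F := F) (r := r) y ↔ ∃ p : W × F, beta p • y = z := by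
  simp [orb]

/-- The parameters fixing every point of a set. -/
def fixes (o : Finset Ω) (p : W × F) : Prop := ∀ z ∈ o, beta p • z = z

/-- The functionals vanishing on the fixing parameters. -/
noncomputable def uSet (o : Finset Ω) : Finset W :=
  Finset.univ.filter fun u => ∀ p : W × F, fixes o p → fW u p.1 = 0

/-- The forms vanishing on the fixing parameters. -/
noncomputable def phSet (o : Finset Ω) : Finset W :=
  Finset.univ.filter fun u => ∀ p : W × F, fixes o p → p.2 = fW u p.1

theorem mem_uSet {o : Finset Ω} {u : W} :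
    u ∈ uSet o ↔ ∀ p : W × F, fixes o p → fW u p.1 = 0 := by
  simp [uSet]

theorem mem_phSet {o : Finset Ω} {u : W} :
    u ∈ phSet o ↔ ∀ p : W × F, fixes o p → p.2 = fW u p.1 := by
  simp [phSet]

theorem zero_mem_uSet (o : Finset Ω) : (0 : W) ∈ uSet o :=
  mem_uSet.2 fun p _ => f_zero_left _

variable (h2 : Fintype.card F = 2)
include h2

theorem self_mem_orb (y : Ω) : y ∈ orb (F := F) (r := r) y :=
  mem_orb.2 ⟨0, by rw [beta_zero h2, one_smul]⟩

theorem orb_eq {y z : Ω} (h : z ∈ orb (F := F) (r := r) y) : orb (F := F) (r := r) z = orb (F := F) (r := r) y := by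
  obtain ⟨p, rfl⟩ := mem_orb.1 h
  ext v
  simp only [mem_orb]
  constructor
  · rintro ⟨q, rfl⟩
    exact ⟨q + p, by rw [beta_add h2, mul_smul]⟩
  · rintro ⟨q, rfl⟩
    exact ⟨q + p, by rw [← mul_smul, beta_add h2, mul_assoc, beta_self h2, mul_one]⟩

theorem fixes_orb {y : Ω} {p : W × F} : fixes (orb (F := F) (r := r) y) p ↔ beta p • y = y := by
  refine ⟨fun h => h y (self_mem_orb h2 y), fun h z hz => ?_⟩
  obtain ⟨q, rfl⟩ := mem_orb.1 hz
  rw [← mul_smul, beta_comm h2, mul_smul, h]

/-- The parameters fixing a point. -/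
def stabPar (y : Ω) : Submodule F (W × F) where
  carrier := {p | beta p • y = y}
  zero_mem' := by show beta (0 : W × F) • y = y; rw [beta_zero h2, one_smul]
  add_mem' {p q} hp hq := by
    show beta (p + q) • y = y
    rw [beta_add h2, mul_smul, hq, hp]
  smul_mem' c p hp := by
    show beta (c • p) • y = y
    rcases scalar_cases h2 c with rfl | rfl
    · rw [zero_smul, beta_zero h2, one_smul]
    · rw [one_smul]; exact hp

theorem mem_stabPar {y : Ω} {p : W × F} : p ∈ stabPar h2 y ↔ beta p • y = y := Iff.rfl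

theorem card_orb_mul (y : Ω) :
    (orb (F := F) (r := r) y).card * Nat.card (stabPar (F := F) (r := r) h2 y) = 2 * 4 ^ r := by
  have h := Finset.card_eq_sum_card_image (fun p : W × F => beta p • y) Finset.univ
  rw [Finset.card_univ, Fintype.card_prod, card_vec h2, h2, mul_comm] at h
  rw [h]
  show _ = ∑ z ∈ orb y, _
  rw [Finset.sum_const_nat fun z hz => ?_]
  obtain ⟨p₀, rfl⟩ := mem_orb.1 hz
  rw [Nat.card_eq_fintype_card]
  refine (Finset.card_bij (fun (q : stabPar h2 y) _ => p₀ + (q : W × F)) ?_ ?_ ?_).symm.trans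
    Finset.card_univ
  · intro q _
    simp only [Finset.mem_filter, Finset.mem_univ, true_and]
    rw [beta_add h2, mul_smul, q.2]
  · intro q _ q' _ h
    exact Subtype.ext (add_left_cancel h)
  · intro p hp
    simp only [Finset.mem_filter, Finset.mem_univ, true_and] at hp
    refine ⟨⟨p₀ + p, ?_⟩, Finset.mem_univ _, ?_⟩
    · rw [mem_stabPar, beta_add h2, mul_smul, hp, ← mul_smul, beta_self h2, one_smul]
    · show p₀ + (p₀ + p) = p
      rw [← add_assoc, show p₀ + p₀ = 0 from Prod.ext (vec_add_self h2 _) (sc_add_self h2 _), zero_add]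

/-- The length of an orbit. -/
theorem card_orb (y : Ω) : (orb (F := F) (r := r) y).card =
    (uSet (F := F) (r := r) (orb (F := F) (r := r) y)).card +
      (phSet (F := F) (r := r) (orb (F := F) (r := r) y)).card ∧
    (beta ((0, 1) : W × F) • y = y → phSet (F := F) (r := r) (orb (F := F) (r := r) y) = ∅) ∧
    (beta ((0, 1) : W × F) • y ≠ y → (phSet (F := F) (r := r) (orb (F := F) (r := r) y)).card =
      (uSet (F := F) (r := r) (orb (F := F) (r := r) y)).card) := by
  set K := stabPar (F := F) (r := r) h2 y with hK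
  set D : Submodule F W := K.map (LinearMap.fst F W F) with hD
  let Ψ : W →ₗ[F] Module.Dual F D :=
    { toFun := fun u => (sympB r F u).domRestrict D
      map_add' := fun u v => by ext x; simp
      map_smul' := fun c u => by ext x; simp }
  have hsurj : Function.Surjective Ψ := by
    intro ℓ
    obtain ⟨u, hu⟩ := exists_dual_on D ℓ
    exact ⟨u, LinearMap.ext fun x => by simp [Ψ, sympB_apply, hu x]⟩
  have hU : ∀ u : W, u ∈ uSet (orb (F := F) (r := r) y) ↔ u ∈ LinearMap.ker Ψ := by
    intro u
    rw [mem_uSet, LinearMap.mem_ker]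
    constructor
    · intro h
      ext ⟨x, hx⟩
      obtain ⟨p, hp, rfl⟩ := hx
      simp [Ψ, sympB_apply, h p ((fixes_orb h2).2 hp)]
    · intro h p hp
      have := LinearMap.congr_fun h ⟨p.1, p, (fixes_orb h2).1 hp, rfl⟩
      simpa [Ψ, sympB_apply] using this
  have hcardU : (uSet (F := F) (r := r) (orb (F := F) (r := r) y)).card = Nat.card (LinearMap.ker Ψ) := by
    rw [Nat.card_eq_fintype_card, Fintype.card_subtype]
    congr 1
    ext u
    simp only [Finset.mem_filter, Finset.mem_univ, true_and]
    exact hU u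
  have hUD : (uSet (F := F) (r := r) (orb (F := F) (r := r) y)).card * Nat.card D = 4 ^ r := by
    have h := Ψ.finrank_range_add_finrank_ker
    rw [LinearMap.range_eq_top.2 hsurj, finrank_top, Subspace.dual_finrank_eq] at h
    rw [hcardU, Module.natCard_eq_pow_finrank (K := F) (V := LinearMap.ker Ψ),
      Module.natCard_eq_pow_finrank (K := F) (V := D),
      ← pow_add, add_comm, h, Nat.card_eq_fintype_card, h2, finrank_vec,
      show (4 : ℕ) = 2 ^ 2 from rfl, ← pow_mul]
  have horb := card_orb_mul (F := F) (r := r) h2 y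
  rw [← hK] at horb
  by_cases hz : beta ((0, 1) : W × F) • y = y
  · have hph : phSet (F := F) (r := r) (orb (F := F) (r := r) y) = ∅ := by
      refine Finset.eq_empty_of_forall_notMem fun u hu => ?_
      have := mem_phSet.1 hu _ ((fixes_orb h2).2 hz)
      simp [f_zero_right] at this
    have hKD : Nat.card K = 2 * Nat.card D := by
      have e : K ≃ D × F :=
        { toFun := fun p => (⟨p.1.1, p.1, p.2, rfl⟩, p.1.2)
          invFun := fun x => ⟨(x.1.1, x.2), by
            obtain ⟨⟨v, hv⟩, c⟩ := x
            obtain ⟨p, hp, rfl⟩ := hv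
            have e : ((p.1, c) : W × F) = p + (c - p.2) • ((0, 1) : W × F) := by
              refine Prod.ext ?_ ?_ <;> simp
            show ((p.1, c) : W × F) ∈ K
            rw [e]
            exact add_mem hp (Submodule.smul_mem _ _ hz)⟩
          left_inv := fun p => rfl
          right_inv := fun x => rfl }
      rw [Nat.card_congr e, Nat.card_prod, Nat.card_eq_fintype_card (α := F), h2, mul_comm]
    refine ⟨?_, fun _ => hph, fun h => absurd hz h⟩
    rw [hph, Finset.card_empty, add_zero]
    rw [hKD, ← hUD] at horb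
    have hpos : 0 < 2 * Nat.card D := Nat.mul_pos (by norm_num) Nat.card_pos
    refine Nat.eq_of_mul_eq_mul_right hpos ?_
    rw [horb]; ring
  · have hinj : ∀ p ∈ K, p.1 = 0 → p = 0 := by
      rintro ⟨v, c⟩ hp (hv : v = 0)
      subst hv
      rcases scalar_cases h2 c with rfl | rfl
      · rfl
      · exact absurd hp hz
    let π : K →ₗ[F] D := ((LinearMap.fst F W F).domRestrict K).codRestrict D
      fun p => Submodule.mem_map_of_mem p.2
    have hπ : Function.Bijective π := by
      refine ⟨?_, ?_⟩
      · rw [← LinearMap.ker_eq_bot, LinearMap.ker_eq_bot']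
        intro p hp
        exact Subtype.ext (hinj p.1 p.2 (congrArg Subtype.val hp))
      · rintro ⟨v, p, hp, rfl⟩
        exact ⟨⟨p, hp⟩, rfl⟩
    let eπ : K ≃ₗ[F] D := LinearEquiv.ofBijective π hπ
    have hKD : Nat.card K = Nat.card D := Nat.card_congr eπ.toEquiv
    obtain ⟨u₀, hu₀⟩ := exists_dual_on D
      (((LinearMap.snd F W F).domRestrict K).comp eπ.symm.toLinearMap)
    have hu₀' : ∀ p ∈ K, p.2 = fW u₀ p.1 := by
      intro p hp
      have h := hu₀ (eπ ⟨p, hp⟩)
      rw [LinearMap.comp_apply, LinearEquiv.coe_coe, eπ.symm_apply_apply] at h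
      exact h.symm
    have hcard : (phSet (F := F) (r := r) (orb (F := F) (r := r) y)).card =
        (uSet (F := F) (r := r) (orb (F := F) (r := r) y)).card := by
      refine Finset.card_bij' (fun u _ => u + u₀) (fun u _ => u + u₀) ?_ ?_ ?_ ?_
      · intro u hu
        refine mem_uSet.2 fun p hp => ?_
        rw [f_add_left, ← mem_phSet.1 hu p hp, ← hu₀' p ((fixes_orb h2).1 hp), sc_add_self h2]
      · intro u hu
        refine mem_phSet.2 fun p hp => ?_
        rw [f_add_left, mem_uSet.1 hu p hp, zero_add]
        exact hu₀' p ((fixes_orb h2).1 hp)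
      · intro u _; simp [add_assoc, vec_add_self h2]
      · intro u _; simp [add_assoc, vec_add_self h2]
    refine ⟨?_, fun h => absurd h hz, fun _ => hcard⟩
    rw [hcard]
    rw [hKD, ← hUD] at horb
    refine Nat.eq_of_mul_eq_mul_right (Nat.card_pos : 0 < Nat.card D) ?_
    rw [horb]; ring

/-- Transporting an orbit by the smaller group. -/
theorem image_orb (g : SpW) (y : Ω) :
    (orb (F := F) (r := r) y).image (fun z => hat g • z) = orb (F := F) (r := r) (hat g • y) := by
  ext v
  simp only [Finset.mem_image, mem_orb]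
  constructor
  · rintro ⟨z, ⟨p, rfl⟩, rfl⟩
    exact ⟨move g p, by rw [← mul_smul, ← hat_beta h2, mul_smul]⟩
  · rintro ⟨q, rfl⟩
    refine ⟨beta (move g⁻¹ q) • y, ⟨_, rfl⟩, ?_⟩
    rw [← mul_smul, hat_beta h2, mul_smul]
    congr 2
    simp only [move, smul_smul, mul_inv_cancel, one_smul]
    refine Prod.ext rfl ?_
    have e1 : ∀ x y : F, x + y + y = x := fun x y => by rw [add_assoc, sc_add_self h2, add_zero]
    rw [e1, e1]

theorem move_fixes {g : SpW} {y : Ω} {p : W × F} (h : fixes (orb (F := F) (r := r) y) p) :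
    fixes (orb (F := F) (r := r) (hat g • y)) (move g p) := by
  rw [fixes_orb h2] at h ⊢
  rw [← mul_smul, ← hat_beta h2, mul_smul, h]

theorem uSet_move {g : SpW} {y : Ω} {u : W} (hu : u ∈ uSet (orb (F := F) (r := r) y)) :
    g • u ∈ uSet (orb (F := F) (r := r) (hat g • y)) := by
  refine mem_uSet.2 fun p hp => ?_
  have h := move_fixes h2 (g := g⁻¹) hp
  rw [← mul_smul, ← hat_mul, inv_mul_cancel, hat_one, one_smul] at h
  have := mem_uSet.1 hu _ h
  simp only [move] at this
  rwa [← sympForm_mulVec g, ← smul_eq, ← smul_eq, smul_inv_smul] at this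

theorem phSet_move {v : W} {y : Ω} {u : W} (hv : phiU u v = 0)
    (hu : u ∈ phSet (orb (F := F) (r := r) y)) :
    u + v ∈ phSet (orb (F := F) (r := r) (hat (T v) • y)) := by
  refine mem_phSet.2 fun p hp => ?_
  have h := move_fixes h2 (g := T v) hp
  rw [← mul_smul, ← hat_mul, T_sq h2, hat_one, one_smul] at h
  have h3 := mem_phSet.1 hu _ h
  simp only [move] at h3
  have h4 := phiU_T h2 hv p.1
  rw [← T_smul, phiU, phiU] at h4
  have e1 : ∀ x y : F, x + y + y = x := fun x y => by rw [add_assoc, sc_add_self h2, add_zero]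
  calc p.2 = p.2 + phi p.1 + phi (T v • p.1) + (phi p.1 + phi (T v • p.1)) := by
        rw [show p.2 + phi p.1 + phi (T v • p.1) + (phi p.1 + phi (T v • p.1)) =
          p.2 + (phi p.1 + phi (T v • p.1)) + (phi p.1 + phi (T v • p.1)) by ring, e1]
    _ = fW u (T v • p.1) + phi (T v • p.1) + phi p.1 := by rw [h3]; ring
    _ = fW (u + v) p.1 := by
        rw [show fW u (T v • p.1) + phi (T v • p.1) = phi (T v • p.1) + fW u (T v • p.1) by ring,
          h4, show phi p.1 + fW (u + v) p.1 + phi p.1 = fW (u + v) p.1 + phi p.1 + phi p.1 by ring, e1]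

end Cfsg.Agent.MinIndexSp
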