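import Cfsg.Agent.Lib.MinIndexSp.Basic

/-!
# The radical of a point stabiliser has an orbit of length more than two

In an action of `Sp_{2m}(2)`, `m ≥ 3`, that is not trivial, some element `T w * T (a + w)` of the radical of the
stabiliser of `a` moves some point `y` neither to itself nor to `T a • y`. The proof follows the
three transvections of a totally isotropic line.
-/

set_option autoImplicit false
set_option linter.unusedSectionVars false

namespace Cfsg.Agent.MinIndexSp

open Matrix Cfsg.Agent.Forms.SympStd Cfsg.Agent.Classical.Symplectic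
open scoped commutatorElement

variable {F : Type*} [Field F] [Fintype F] {m : ℕ}

local notation "Vec" => (Fin m ⊕ Fin m → F)
local notation "Sp" => symplecticGroup (Fin m) F
local notation "f" => Cfsg.sympForm m F

theorem center_bot (h2 : Fintype.card F = 2) (hm : 1 ≤ m) : Subgroup.center Sp = ⊥ := by
  rw [eq_bot_iff]
  intro A hA
  obtain ⟨a, ha⟩ := (mem_center_iff A).1 hA
  refine Subgroup.mem_bot.2 (sp_ext fun v => ?_)
  have h1 : a = 1 := by
    refine eq_one h2 fun h0 => ?_
    obtain ⟨u, hu⟩ : ∃ u : Vec, u ≠ 0 := ⟨Pi.single (Sum.inl ⟨0, hm⟩) 1, by simp⟩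
    refine (smul_ne_zero_iff_ne A).2 hu ?_
    rw [smul_eq, ha, h0, zero_smul]
  rw [ha, h1, one_smul]
  simp

theorem isSimple (h2 : Fintype.card F = 2) (hm : 3 ≤ m) : IsSimpleGroup Sp := by
  have : IsSimpleGroup (Cfsg.PSp m F) := isSimpleGroup_PSp (by omega) (fun h => by omega)
  exact (((QuotientGroup.quotientMulEquivOfEq (center_bot h2 (by omega))).trans
    QuotientGroup.quotientBot).symm).isSimpleGroup

variable {Ω : Type*} [MulAction (symplecticGroup (Fin m) F) Ω]

/-- The orbits of all radical elements have length at most two. -/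
def Narrow (Ω : Type*) [MulAction Sp Ω] : Prop :=
  ∀ a w : Vec, a ≠ 0 → f a w = 0 → ∀ y : Ω,
    (T w * T (a + w)) • y = y ∨ (T w * T (a + w)) • y = T a • y

variable (h2 : Fintype.card F = 2)
include h2

theorem T_twice (v : Vec) (y : Ω) : T v • T v • y = y := by
  rw [← mul_smul, T_sq h2, one_smul]

/-- The three transvections of a line of which the product moves `x` agree at `x`. -/
theorem agree (hN : Narrow (F := F) (m := m) Ω) {a b : Vec} (ha : a ≠ 0) (hb : b ≠ 0)
    (hab : f a b = 0) {x : Ω} (he : (T a * T b * T (a + b)) • x ≠ x) :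
    ∃ y, y ≠ x ∧ T a • x = y ∧ T b • x = y ∧ T (a + b) • x = y := by
  have h1 : T b • T (a + b) • x = x := by
    rcases hN a b ha hab x with h | h
    · rwa [mul_smul] at h
    · exact absurd (by rw [mul_assoc, mul_smul, h, T_twice h2]) he
  have hcomm : T a * T b = T b * T a := T_comm h2 hab
  have h3 : T a • T (a + b) • x = x := by
    rcases hN b a hb (by rw [f_comm h2, hab]) x with h | h
    · rwa [add_comm b a, mul_smul] at h
    · rw [add_comm b a] at h
      exact absurd (by rw [hcomm, mul_assoc, mul_smul, h, T_twice h2]) he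
  refine ⟨T (a + b) • x, fun h => he ?_, ?_, ?_, rfl⟩
  · rw [h] at h1 h3
    rw [mul_smul, mul_smul, h, h1, h3]
  · conv_lhs => rw [← h3]
    rw [T_twice h2]
  · conv_lhs => rw [← h1]
    rw [T_twice h2]

/-- No line has exactly one transvection moving `x`. -/
theorem not_one (hN : Narrow (F := F) (m := m) Ω) {p q : Vec} (hq : q ≠ 0)
    (hpq : f p q = 0) {x y : Ω} (hxy : y ≠ x) (h1 : T p • x = y) (h3 : T q • x = x)
    (h4 : T (p + q) • x = x) : False := by
  rcases hN q p hq (by rw [f_comm h2, hpq]) x with h | h
  · rw [add_comm q p, mul_smul, h4, h1] at h; exact hxy h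
  · rw [add_comm q p, mul_smul, h4, h1, h3] at h; exact hxy h

/-- The image of `x` under the transvections orthogonal to a bad line. -/
theorem orth_line (hN : Narrow (F := F) (m := m) Ω) {a b : Vec} (ha : a ≠ 0) (hb : b ≠ 0) (hne : a ≠ b)
    (hab : f a b = 0) {x y : Ω} (hxy : y ≠ x) (hax : T a • x = y) (hbx : T b • x = y)
    (hcx : T (a + b) • x = y) (d : Vec) (hda : f a d = 0) (hdb : f b d = 0) :
    T d • x = x ∨ T d • x = y := by
  by_cases h0 : d = 0
  · exact Or.inl (by rw [h0, T_zero, one_smul])
  by_cases h1 : d = a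
  · exact Or.inr (h1 ▸ hax)
  by_cases h3 : d = b
  · exact Or.inr (h3 ▸ hbx)
  by_cases h4 : d = a + b
  · exact Or.inr (h4 ▸ hcx)
  have hay : T a • y = x := by rw [← hax, T_twice h2]
  by_cases e1 : (T a * T d * T (a + d)) • x ≠ x
  · obtain ⟨z, -, za, zd, -⟩ := agree h2 hN ha h0 hda e1
    exact Or.inr (by rw [zd, ← za, hax])
  by_cases e2 : (T b * T d * T (b + d)) • x ≠ x
  · obtain ⟨z, -, za, zd, -⟩ := agree h2 hN hb h0 hdb e2
    exact Or.inr (by rw [zd, ← za, hbx])
  rw [not_ne_iff] at e1 e2
  have i1 : T (a + d) • x = T d • y := by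
    have := congrArg (fun z => T d • T a • z) e1
    simpa only [mul_smul, T_twice h2, hax] using this
  have i2 : T (b + d) • x = T d • y := by
    have := congrArg (fun z => T d • T b • z) e2
    simpa only [mul_smul, T_twice h2, hbx] using this
  have hsum : a + d + (b + d) = a + b := by
    calc a + d + (b + d) = a + b + (d + d) := by abel
      _ = a + b := by rw [vec_add_self h2, add_zero]
  have hperp : f (a + d) (b + d) = 0 := by
    rw [f_add_left, f_add_right, f_add_right, hab, hda, sympForm_self, f_comm h2 b d, hdb]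
    simp
  have hn1 : a + d ≠ 0 := fun h => h1 ((vec_add_eq_zero h2).1 h).symm
  have hn2 : b + d ≠ 0 := fun h => h3 ((vec_add_eq_zero h2).1 h).symm
  by_cases e3 : (T (a + d) * T (b + d) * T (a + d + (b + d))) • x ≠ x
  · obtain ⟨z, -, za, zb, zc⟩ := agree h2 hN hn1 hn2 hperp e3
    rw [hsum, hcx] at zc
    subst zc
    rw [i1] at za
    left
    have hcom : T a * T d = T d * T a := T_comm h2 hda
    calc T d • x = T d • T a • y := by rw [hay]
      _ = T a • T d • y := by rw [← mul_smul, ← hcom, mul_smul]
      _ = x := by rw [za, hay]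
  · rw [not_ne_iff, hsum, mul_smul, mul_smul, hcx] at e3
    exfalso
    have := congrArg (fun z => T (b + d) • T (a + d) • z) e3
    simp only [T_twice h2] at this
    rw [i1, ← i2, T_twice h2] at this
    exact hxy this

/-- In a non-trivial action, some orbit of a radical has length more than two. -/
theorem not_narrow (hm : 3 ≤ m) (hnt : ∃ (g : Sp) (y : Ω), g • y ≠ y) :
    ¬ Narrow (F := F) (m := m) Ω := by
  intro hN
  have hs := isSimple h2 hm
  -- the action is faithful
  have hfaith : ∀ g : Sp, (∀ y : Ω, g • y = y) → g = 1 := by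
    rcases hs.eq_bot_or_eq_top_of_normal (MulAction.toPermHom Sp Ω).ker inferInstance with h | h
    · intro g hg
      have : g ∈ (MulAction.toPermHom Sp Ω).ker := MonoidHom.mem_ker.2 (Equiv.ext fun y => hg y)
      rwa [h, Subgroup.mem_bot] at this
    · obtain ⟨g, y, hg⟩ := hnt
      have h' : g ∈ (MulAction.toPermHom Sp Ω).ker := h ▸ Subgroup.mem_top g
      exact absurd (Equiv.ext_iff.1 (MonoidHom.mem_ker.1 h') y) hg
  -- a bad line
  set a₀ : Vec := Pi.single (Sum.inl ⟨0, by omega⟩) 1 with ha₀
  set b₀ : Vec := Pi.single (Sum.inl ⟨1, by omega⟩) 1 with hb₀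
  have han : a₀ ≠ 0 := by simp [ha₀]
  have hbn : b₀ ≠ 0 := by simp [hb₀]
  have hab₀ : f a₀ b₀ = 0 := sympForm_inl_inl _ _
  have hne₀ : a₀ ≠ b₀ := by
    intro h
    have := congrFun h (Sum.inl ⟨0, by omega⟩)
    simp [ha₀, hb₀, Pi.single_apply, Fin.ext_iff] at this
  obtain ⟨x, hx⟩ : ∃ x : Ω, (T a₀ * T b₀ * T (a₀ + b₀)) • x ≠ x := by
    by_contra h
    push Not at h
    obtain ⟨z, hz⟩ := exists_partner han
    have h1 := congrArg (fun A : Sp => A • z) (hfaith _ h)
    simp only [mul_smul, one_smul, T_smul, f_add_left, f_add_right, f_smul_left, f_smul_right,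
      sympForm_self, hab₀, f_comm h2 a₀ b₀, f_comm h2 a₀ z, hz, one_smul, zero_mul, mul_zero,
      add_zero, zero_add] at h1
    rcases scalar_cases h2 (f z b₀) with e | e <;>
      simp only [e, zero_smul, one_smul, add_zero, sc_add_self h2] at h1
    · refine hbn ?_
      have e2 : z + (a₀ + b₀) + a₀ = z + b₀ + (a₀ + a₀) := by abel
      rw [e2, vec_add_self h2, add_zero, add_eq_left] at h1
      exact h1
    · refine hne₀ ((vec_add_eq_zero h2).1 ?_)
      have e2 : z + b₀ + a₀ = z + (a₀ + b₀) := by abel
      rw [e2, add_eq_left] at h1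
      exact h1
  obtain ⟨y, hxy, hax, hbx, hcx⟩ := agree h2 hN han hbn hab₀ hx
  -- the transvections keeping the pair
  let K : Vec → Prop := fun d => (T d • x = x ∨ T d • x = y) ∧ (T d • y = x ∨ T d • y = y)
  have hline : ∀ a b : Vec, a ≠ 0 → b ≠ 0 → a ≠ b → f a b = 0 → T a • x = y → T b • x = y →
      T (a + b) • x = y → ∀ d, f a d = 0 → f b d = 0 → K d := by
    intro a b ha hb hne hab hax hbx hcx d hda hdb
    refine ⟨orth_line h2 hN ha hb hne hab hxy hax hbx hcx d hda hdb, ?_⟩
    exact (orth_line h2 hN ha hb hne hab (Ne.symm hxy) (by rw [← hax, T_twice h2])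
      (by rw [← hbx, T_twice h2]) (by rw [← hcx, T_twice h2]) d hda hdb).symm
  have hclosed : ∀ k v, K k → K v → K (v + f v k • k) := by
    intro k v hk hv
    have hmem : ∀ d z, K d → (z = x ∨ z = y) → (T d • z = x ∨ T d • z = y) := by
      rintro d z hd (rfl | rfl)
      · exact hd.1
      · exact hd.2
    have e : T (v + f v k • k) = T k * T v * T k := by
      have h1 := T_conj (T k) v
      rw [T_inv h2, T_apply] at h1
      exact h1.symm
    constructor <;> rw [e, mul_smul, mul_smul]
    · exact hmem k _ hk (hmem v _ hv (hmem k _ hk (Or.inl rfl)))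
    · exact hmem k _ hk (hmem v _ hv (hmem k _ hk (Or.inr rfl)))
  -- lines meeting the orthogonal of a vector
  have step : ∀ a b : Vec, a ≠ 0 → b ≠ 0 → a ≠ b → f a b = 0 → T a • x = y → T b • x = y →
      T (a + b) • x = y → ∀ v, f v a = 0 → K v := by
    intro a b ha hb hne hab hax hbx hcx v hva
    by_cases hvb : f v b = 0
    · exact hline a b ha hb hne hab hax hbx hcx v (by rw [f_comm h2, hva]) (by rw [f_comm h2, hvb])
    have hvb1 : f v b = 1 := eq_one h2 hvb
    have hc0 : a + b ≠ 0 := fun h => hne ((vec_add_eq_zero h2).1 h)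
    obtain ⟨d, hd, hdn⟩ : ∃ d : Vec, (f a d = 0 ∧ f b d = 0) ∧ d ∉ Submodule.span F ({a, b} : Set Vec) := by
      let φ : Vec →ₗ[F] F × F := LinearMap.prod (sympB m F a) (sympB m F b)
      have hlt : Submodule.span F ({a, b} : Set Vec) < LinearMap.ker φ := by
        refine lt_of_le_of_ne ?_ fun h => ?_
        · rw [Submodule.span_le]
          rintro z (h | h) <;> rw [h] <;> simp [φ, sympB_apply, sympForm_self, hab, f_comm h2 a b]
        · have h1 : Module.finrank F (Submodule.span F ({a, b} : Set Vec)) ≤ 2 := by
            classical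
            refine (finrank_span_le_card _).trans ?_
            rw [Set.toFinset_insert, Set.toFinset_singleton]
            exact Finset.card_le_two
          have h3 := LinearMap.finrank_range_add_finrank_ker φ
          have h4 : Module.finrank F (LinearMap.range φ) ≤ 2 :=
            (Submodule.finrank_le _).trans (by rw [Module.finrank_prod, Module.finrank_self])
          rw [finrank_vec, ← h] at h3
          omega
      obtain ⟨d, hd, hdn⟩ := SetLike.exists_of_lt hlt
      simp [φ, sympB_apply] at hd
      exact ⟨d, hd, hdn⟩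
    obtain ⟨hda, hdb⟩ := hd
    have hna : ∀ z, z ∈ ({0, a, b, a + b} : Set Vec) → d ≠ z := by
      intro z hz h
      subst h
      refine hdn ?_
      simp only [Set.mem_insert_iff, Set.mem_singleton_iff] at hz
      rcases hz with rfl | rfl | rfl | rfl
      · exact zero_mem _
      · exact Submodule.subset_span (by simp)
      · exact Submodule.subset_span (by simp)
      · exact add_mem (Submodule.subset_span (by simp)) (Submodule.subset_span (by simp))
    have hd0 : d ≠ 0 := hna 0 (by simp)
    have hbd0 : b + d ≠ 0 := fun h => hna b (by simp) ((vec_add_eq_zero h2).1 h).symm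
    have had0 : a + d ≠ 0 := fun h => hna a (by simp) ((vec_add_eq_zero h2).1 h).symm
    have hcd0 : a + b + d ≠ 0 := fun h => hna (a + b) (by simp) ((vec_add_eq_zero h2).1 h).symm
    have habd : f a (b + d) = 0 := by rw [f_add_right, hab, hda, add_zero]
    -- one of two lines through `a` is bad
    obtain ⟨d', hd', hz⟩ : ∃ d', (d' = d ∨ d' = b + d) ∧ (T a * T d' * T (a + d')) • x ≠ x := by
      by_contra h
      push Not at h
      have i1 : T (a + d) • x = T d • y := by
        have := congrArg (fun z => T d • T a • z) (h d (Or.inl rfl))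
        simpa only [mul_smul, T_twice h2, hax] using this
      have i2 : T (a + b + d) • x = T (b + d) • y := by
        have := congrArg (fun z => T (b + d) • T a • z) (h (b + d) (Or.inr rfl))
        simpa only [mul_smul, T_twice h2, hax, ← add_assoc] using this
      have hcd : f (a + b) d = 0 := by rw [f_add_left, hda, hdb, add_zero]
      have hbad : f b (a + d) = 0 := by rw [f_add_right, f_comm h2 a b, hab, hdb, add_zero]
      have hcad : f (a + b) (a + d) = 0 := by
        rw [f_add_left, hbad, f_add_right, sympForm_self, hda, add_zero, add_zero]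
      have Kd := hline a b ha hb hne hab hax hbx hcx d hda hdb
      have Kbd := hline a b ha hb hne hab hax hbx hcx (b + d) habd
        (by rw [f_add_right, sympForm_self, hdb, add_zero])
      have swap : ∀ p : Vec, T p • x = x → K p → T p • y = y := fun p hp hK =>
        hK.2.resolve_left fun h => hxy (by
          rw [← T_twice h2 p y, h, hp])
      have flip : ∀ p : Vec, T p • x = y → T p • y = x := fun p hp => by rw [← hp, T_twice h2]
      rcases Kd.1 with u | u <;> rcases Kbd.1 with w | w
      · exact not_one h2 hN hd0 hdb hxy hbx u w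
      · refine not_one h2 hN hd0 hcd hxy hcx u ?_
        rw [i2, flip _ w]
      · have hcad' : a + b + (a + d) = b + d := by
          calc a + b + (a + d) = b + d + (a + a) := by abel
            _ = b + d := by rw [vec_add_self h2, add_zero]
        exact not_one h2 hN had0 hcad hxy hcx (by rw [i1, flip _ u]) (by rw [hcad']; exact w)
      · exact not_one h2 hN had0 hbad hxy hbx (by rw [i1, flip _ u])
          (by rw [show b + (a + d) = a + b + d by abel, i2, flip _ w])
    have hd'0 : d' ≠ 0 := by rcases hd' with rfl | rfl <;> assumption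
    have had' : f a d' = 0 := by rcases hd' with rfl | rfl <;> assumption
    have hd'n : d' ∉ Submodule.span F ({a, b} : Set Vec) := by
      rcases hd' with rfl | rfl
      · exact hdn
      · intro h
        refine hdn ?_
        rw [Submodule.add_mem_iff_right _ (Submodule.subset_span (by simp))] at h
        exact h
    obtain ⟨z, hzx, za, zd, zad⟩ := agree h2 hN ha hd'0 had' hz
    rw [hax] at za
    subst za
    have hne' : a ≠ d' := fun h => hd'n (h ▸ Submodule.subset_span (by simp))
    -- the helper
    have hb' : b ∉ Submodule.span F ({a, d', b + v} : Set Vec) := by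
      intro h
      obtain ⟨c₁, c₂, c₃, hc⟩ := Submodule.mem_span_triple.1 h
      rcases scalar_cases h2 c₃ with rfl | rfl
      · rcases scalar_cases h2 c₂ with rfl | rfl
        · rcases scalar_cases h2 c₁ with rfl | rfl <;> simp at hc
          · exact hb hc.symm
          · exact hne hc
        · refine hd'n ?_
          rw [zero_smul, add_zero, one_smul] at hc
          have : d' = b - c₁ • a := by rw [← hc]; abel
          rw [this]
          exact sub_mem (Submodule.subset_span (by simp))
            (Submodule.smul_mem _ _ (Submodule.subset_span (by simp)))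
      · have h1 := congrArg (fun z => f z b) hc
        simp only [f_add_left, f_smul_left, hab, hvb1, sympForm_self, mul_zero, zero_add,
          one_mul] at h1
        rcases hd' with rfl | rfl
        · simp [f_comm h2 b d', hdb] at h1
        · simp [f_add_left, sympForm_self, f_comm h2 b d, hdb] at h1
    obtain ⟨k, hk0, hkb⟩ := exists_avoid hb'
    have hka : f k a = 0 := hk0 _ (Submodule.subset_span (by simp))
    have hkd : f k d' = 0 := hk0 _ (Submodule.subset_span (by simp))
    have hkv : f k v = 1 := by
      have := hk0 (b + v) (Submodule.subset_span (by simp))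
      rw [f_add_right, eq_one h2 hkb] at this
      rcases scalar_cases h2 (f k v) with e | e
      · rw [e, add_zero] at this; exact absurd this one_ne_zero
      · exact e
    have Kk : K k := hline a d' ha hd'0 hne' had' hax zd zad k
      (by rw [f_comm h2, hka]) (by rw [f_comm h2, hkd])
    have Kv' : K (v + k) := hline a b ha hb hne hab hax hbx hcx (v + k)
      (by rw [f_comm h2, f_add_left, hva, hka, add_zero])
      (by rw [f_comm h2, f_add_left, hvb1, eq_one h2 hkb, sc_add_self h2])
    have := hclosed k (v + k) Kk Kv'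
    rwa [f_add_left, sympForm_self, add_zero, f_comm h2 k v, hkv, one_smul, add_assoc,
      vec_add_self h2, add_zero] at this
  -- every transvection keeps the pair
  have all : ∀ v, K v := by
    intro v
    by_cases h1 : f v a₀ = 0
    · exact step a₀ b₀ han hbn hne₀ hab₀ hax hbx hcx v h1
    by_cases h3 : f v b₀ = 0
    · exact step b₀ a₀ hbn han (Ne.symm hne₀) (by rw [f_comm h2, hab₀]) hbx hax
        (by rw [add_comm, hcx]) v h3
    refine step (a₀ + b₀) b₀ (fun h => hne₀ ((vec_add_eq_zero h2).1 h)) hbn
      (fun h => han (by simpa using h)) ?_ hcx hbx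
      (by rw [add_assoc, vec_add_self h2, add_zero, hax]) v ?_
    · rw [f_add_left, hab₀, sympForm_self, add_zero]
    · rw [f_add_right, eq_one h2 h1, eq_one h2 h3, sc_add_self h2]
  have hpair : ∀ (g : Sp) (z : Ω), (z = x ∨ z = y) → (g • z = x ∨ g • z = y) := by
    intro g
    have hg : g ∈ Subgroup.closure (Set.range (T : Vec → Sp)) := closure_T h2 ▸ Subgroup.mem_top g
    induction hg using Subgroup.closure_induction'' with
    | mem g hg =>
      obtain ⟨v, rfl⟩ := hg
      rintro z (rfl | rfl)
      · exact (all v).1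
      · exact (all v).2
    | inv_mem g hg =>
      obtain ⟨v, rfl⟩ := hg
      rw [T_inv h2]
      rintro z (rfl | rfl)
      · exact (all v).1
      · exact (all v).2
    | one => intro z hz; rwa [one_smul]
    | mul g h _ _ ihg ihh => intro z hz; rw [mul_smul]; exact ihg _ (ihh _ hz)
  have hcom : commutator Sp ≤ MulAction.stabilizer Sp x := by
    rw [commutator_def, Subgroup.commutator_le]
    intro g _ h _
    have ev : ∀ k : Sp, (k • x = x ∧ k • y = y) ∨ (k • x = y ∧ k • y = x) := by
      intro k
      rcases hpair k x (Or.inl rfl) with e1 | e1 <;> rcases hpair k y (Or.inr rfl) with e2 | e2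
      · exact absurd (smul_left_cancel k (e2.trans e1.symm)) hxy
      · exact Or.inl ⟨e1, e2⟩
      · exact Or.inr ⟨e1, e2⟩
      · exact absurd (smul_left_cancel k (e2.trans e1.symm)) hxy
    have inv : ∀ k : Sp, k⁻¹ • x = k • x ∧ k⁻¹ • y = k • y := by
      intro k
      rcases ev k with ⟨e1, e2⟩ | ⟨e1, e2⟩ <;>
        exact ⟨by rw [e1, inv_smul_eq_iff]; simp [e1, e2], by rw [e2, inv_smul_eq_iff]; simp [e1, e2]⟩
    show ⁅g, h⁆ • x = x
    rw [commutatorElement_def, mul_smul, mul_smul, mul_smul, (inv h).1]
    rcases ev g with ⟨g1, g2⟩ | ⟨g1, g2⟩ <;> rcases ev h with ⟨k1, k2⟩ | ⟨k1, k2⟩ <;>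
      simp [g1, g2, k1, k2, (inv g).1, (inv g).2]
  rw [commutator_eq_top (Or.inl hm)] at hcom
  exact hxy (hax.symm.trans (hcom (Subgroup.mem_top (T a₀))))

end Cfsg.Agent.MinIndexSp
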