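import Cfsg.Agent.Lib.MinIndexSp.Basic
import Cfsg.Agent.Lib.ShortPres.SympEmb

/-!
# The radical of the stabiliser of a vector, with coordinates

For `a` the first basis vector, the radical consists of the elements `beta (w, c)` with `w` in the space of
dimension two less; the smaller symplectic group acts on it through an embedding fixing `a`.
-/

set_option autoImplicit false
set_option linter.unusedSectionVars false

namespace Cfsg.Agent.MinIndexSp

open Matrix Cfsg.Agent.Forms.SympStd Cfsg.Agent.Classical.Symplectic Cfsg.Agent.ShortPres.Symp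

variable {F : Type*} [Field F] [Fintype F] {r : ℕ}

local notation "W" => (Fin r ⊕ Fin r → F)
local notation "Vec" => (Fin (r + 1) ⊕ Fin (r + 1) → F)
local notation "SpW" => symplecticGroup (Fin r) F
local notation "Sp" => symplecticGroup (Fin (r + 1)) F
local notation "fV" => Cfsg.sympForm (r + 1) F
local notation "fW" => Cfsg.sympForm r F

/-- The first basis vector. -/
def a0 (r : ℕ) (F : Type*) [Field F] : Fin (r + 1) ⊕ Fin (r + 1) → F := Pi.single (Sum.inl 0) 1

theorem a0_ne : a0 r F ≠ 0 := by simp [a0]

/-- The inclusion of the smaller space. -/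
def lift (w : W) : Vec := incl (F := F) (Fin.succEmb r) *ᵥ w

/-- The projection to the smaller space. -/
def proj (v : Vec) : W := (incl (F := F) (Fin.succEmb r))ᵀ *ᵥ v

/-- The embedding of the smaller group. -/
def hat (g : SpW) : Sp := emb (Fin.succEmb r) g

theorem hat_mul (g h : SpW) : hat (g * h) = hat g * hat h := map_mul _ g h

theorem hat_one : hat (1 : SpW) = 1 := map_one _

theorem hat_T (v : W) : hat (T v) = T (lift v) := emb_tv _ v 1

theorem lift_add (u v : W) : lift (u + v) = lift u + lift v := Matrix.mulVec_add _ u v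

theorem lift_zero : lift (0 : W) = 0 := Matrix.mulVec_zero _

theorem proj_a0 : proj (a0 r F) = 0 := by
  funext b
  rw [proj, tincl_mulVec, a0]
  rcases b with i | i <;> simp [Fin.succ_ne_zero]

theorem f_lift (v : Vec) (w : W) : fV v (lift w) = fW (proj v) w := form_incl _ v w

theorem f_a0_lift (w : W) : fV (a0 r F) (lift w) = 0 := by
  rw [f_lift, proj_a0, f_zero_left]

theorem proj_lift (w : W) : proj (lift w) = w := by
  rw [proj, lift, Matrix.mulVec_mulVec, incl_tmul, Matrix.one_mulVec]

theorem lift_inj {u v : W} (h : lift u = lift v) : u = v := by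
  rw [← proj_lift u, h, proj_lift]

theorem hat_mulVec (g : SpW) (v : Vec) : hat g • v = v + lift (g • proj v - proj v) := by
  rw [smul_eq, hat, emb_mulVec]; rfl

theorem hat_a0 (g : SpW) : hat g • a0 r F = a0 r F := by
  rw [hat_mulVec, proj_a0, smul_zero, sub_zero, lift_zero, add_zero]

theorem hat_lift (g : SpW) (w : W) : hat g • lift w = lift (g • w) := by
  rw [hat_mulVec, proj_lift, ← lift_add, add_sub_cancel]

variable (h2 : Fintype.card F = 2)
include h2

/-- A vector orthogonal to `a` comes from the smaller space and `a`. -/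
theorem exists_decomp {v : Vec} (hv : fV (a0 r F) v = 0) :
    ∃ (w : W) (c : F), v = lift w + c • a0 r F := by
  refine ⟨proj v, v (Sum.inl 0), ?_⟩
  have h0 : v (Sum.inr 0) = 0 := by
    have h := hv
    rw [sympForm_eq, Fin.sum_univ_succ] at h
    simpa [a0, sc_neg h2, Fin.succ_ne_zero] using h
  funext b
  rcases b with i | i <;> refine Fin.cases ?_ (fun j => ?_) i
  · rw [Pi.add_apply, lift, incl_mulVec_off _ _ (by rintro ⟨b | b, hb⟩ <;> simp [Fin.succ_ne_zero] at hb)]
    simp [a0]
  · rw [Pi.add_apply, lift, show Sum.inl j.succ = Sum.map (Fin.succEmb r) (Fin.succEmb r) (Sum.inl j) from rfl,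
      incl_mulVec, proj, tincl_mulVec]
    simp [a0, Fin.succ_ne_zero]
  · rw [Pi.add_apply, lift, incl_mulVec_off _ _ (by rintro ⟨b | b, hb⟩ <;> simp [Fin.succ_ne_zero] at hb)]
    simp [a0, h0]
  · rw [Pi.add_apply, lift, show Sum.inr j.succ = Sum.map (Fin.succEmb r) (Fin.succEmb r) (Sum.inr j) from rfl,
      incl_mulVec, proj, tincl_mulVec]
    simp [a0]

omit h2 in
/-- An element of the radical. -/
def beta (p : W × F) : Sp :=
  tv (a0 r F) (p.2 + phi p.1) * (T (lift p.1) * T (a0 r F + lift p.1) * T (a0 r F))

theorem beta_smul (p : W × F) (x : Vec) :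
    beta p • x = x + fV x (a0 r F) • lift p.1 +
      (fV x (lift p.1) + (p.2 + phi p.1) * fV x (a0 r F)) • a0 r F := by
  set a := a0 r F with ha
  set w := lift p.1 with hw
  have e1 : fV a w = 0 := f_a0_lift _
  have e3 : fV w a = 0 := by rw [f_comm h2, e1]
  have step : (T w * T (a + w) * T a) • x = x + fV x a • w + fV x w • a := by
    rw [mul_smul, mul_smul, T_smul, T_smul, T_smul]
    simp only [f_add_left, f_add_right, f_smul_left, sympForm_self, e1, e3,
      mul_zero, add_zero, smul_add, add_smul, zero_smul]
    have z1 : fV x a • a + fV x a • a = 0 := vec_add_self h2 _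
    have z2 : fV x w • w + fV x w • w = 0 := vec_add_self h2 _
    calc _ = x + fV x a • w + fV x w • a + (fV x a • a + fV x a • a) + (fV x w • w + fV x w • w) := by abel
      _ = _ := by rw [z1, z2, add_zero, add_zero]
  rw [beta, mul_smul, ← ha, ← hw, step, smul_eq, tv_mulVec]
  simp only [f_add_left, f_smul_left, sympForm_self, e3, mul_zero, add_zero, add_smul]
  rw [add_assoc]

theorem beta_add (p q : W × F) : beta (p + q) = beta p * beta q := by
  refine sp_ext fun x => ?_
  rw [← smul_eq, ← smul_eq, mul_smul]
  simp only [beta_smul h2, Prod.fst_add, Prod.snd_add, lift_add, phi_add h2, f_add_left, f_add_right,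
    f_smul_left, f_a0_lift, sympForm_self, f_comm h2 (a0 r F) (lift q.1), f_lift (lift q.1), proj_lift,
    smul_add, add_smul, add_mul, mul_zero, add_zero, zero_smul]
  rw [f_comm h2 p.1 q.1, mul_comm (fW p.1 q.1)]
  abel

theorem beta_zero : beta (0 : W × F) = 1 := by
  refine sp_ext fun x => ?_
  rw [← smul_eq, beta_smul h2]
  simp [lift_zero, phi_zero, f_zero_right]

theorem beta_top : beta ((0, 1) : W × F) = T (a0 r F) := by
  refine sp_ext fun x => ?_
  rw [← smul_eq, beta_smul h2, T_apply]
  simp [lift_zero, phi_zero, f_zero_right]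

theorem beta_self (p : W × F) : beta p * beta p = 1 := by
  rw [← beta_add h2, show p + p = 0 from
    Prod.ext (vec_add_self h2 _) (sc_add_self h2 _), beta_zero h2]

theorem beta_comm (p q : W × F) : beta p * beta q = beta q * beta p := by
  rw [← beta_add h2, ← beta_add h2, add_comm p q]

theorem pair_eq_beta (w : W) : T (lift w) * T (a0 r F + lift w) = beta (w, 1 + phi w) := by
  refine sp_ext fun x => ?_
  rw [← smul_eq, ← smul_eq, beta_smul h2]
  have e1 : fV (a0 r F) (lift w) = 0 := f_a0_lift _
  have z : (1 : F) + phi w + phi w = 1 := by rw [add_assoc, sc_add_self h2, add_zero]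
  rw [z, mul_smul, T_smul, T_smul]
  simp only [f_add_left, f_add_right, f_smul_left, sympForm_self, e1,
    mul_zero, add_zero, smul_add, add_smul, zero_smul, one_mul]
  have z2 : fV x (lift w) • lift w + fV x (lift w) • lift w = 0 := vec_add_self h2 _
  calc _ = x + fV x (a0 r F) • lift w + (fV x (lift w) • a0 r F + fV x (a0 r F) • a0 r F) +
      (fV x (lift w) • lift w + fV x (lift w) • lift w) := by abel
    _ = _ := by rw [z2, add_zero]

/-- The radical contains the pairs of transvections on lines through `a`. -/
theorem exists_pair_beta {v : Vec} (hv : fV (a0 r F) v = 0) :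
    ∃ p : W × F, T v * T (a0 r F + v) = beta p := by
  obtain ⟨w, c, rfl⟩ := exists_decomp h2 hv
  refine ⟨(w, 1 + phi w), ?_⟩
  rcases scalar_cases h2 c with rfl | rfl
  · rw [zero_smul, add_zero, pair_eq_beta h2]
  · rw [one_smul, add_comm (lift w), ← add_assoc, vec_add_self h2, zero_add, ← pair_eq_beta h2]
    exact T_comm h2 (by rw [f_add_left, f_a0_lift, sympForm_self, add_zero])

omit h2 in
/-- The action of the smaller group on the parameters. -/
def move (g : SpW) (p : W × F) : W × F := (g • p.1, p.2 + phi p.1 + phi (g • p.1))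

theorem hat_beta (g : SpW) (p : W × F) : hat g * beta p = beta (move g p) * hat g := by
  refine sp_ext fun x => ?_
  rw [← smul_eq, ← smul_eq, mul_smul, mul_smul, beta_smul h2, beta_smul h2]
  have e1 : ∀ z, fV (hat g • x) (hat g • z) = fV x z := fun z => by
    rw [smul_eq, smul_eq, sympForm_mulVec]
  have hA := e1 (a0 r F)
  have hL := e1 (lift p.1)
  rw [hat_a0] at hA
  rw [hat_lift] at hL
  have lin : ∀ (c : F) (z : Vec), hat g • (c • z) = c • (hat g • z) := fun c z => by
    rw [smul_eq, smul_eq, Matrix.mulVec_smul]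
  simp only [smul_add, lin, hat_a0, hat_lift, move, hA, hL]
  have z : p.2 + phi p.1 + phi (g • p.1) + phi (g • p.1) = p.2 + phi p.1 := by
    rw [add_assoc, sc_add_self h2, add_zero]
  rw [z]

end Cfsg.Agent.MinIndexSp
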