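import Cfsg.Agent.Lib.MinIndexSp.Orbits
import Cfsg.Agent.Lib.MinIndexSp.Plane
import Cfsg.Agent.S0247

/-!
# The induction for the minimal orbit length
-/

set_option autoImplicit false
set_option linter.unusedSectionVars false

namespace Cfsg.Agent.MinIndexSp

open Matrix Cfsg.Agent.Forms.SympStd Cfsg.Agent.Classical.Symplectic Cfsg.Agent.ShortPres.Symp

open scoped _root_.Classical

universe u v

/-- A product of two commuting transvections moves `x` only if the orbit of `x` is long. -/
def Low (F : Type u) [Field F] (m : ℕ) : Prop :=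
  ∀ (X : Type v) [MulAction (symplecticGroup (Fin m) F) X] [Finite X] (x : X),
    (∃ b c : Fin m ⊕ Fin m → F, b ≠ 0 ∧ c ≠ 0 ∧ Cfsg.sympForm m F b c = 0 ∧ (T b * T c) • x ≠ x) →
      4 ^ m ≤ 2 * Nat.card (MulAction.orbit (symplecticGroup (Fin m) F) x) + 2 ^ m

theorem low_two (F : Type u) [Field F] [Fintype F] (h2 : Fintype.card F = 2) : Low.{u, v} F 2 := by
  intro X _ _ x hx
  obtain ⟨b, c, hb, hc, -, hmv⟩ := hx
  obtain ⟨e⟩ := S0247.result h2
  let π : symplecticGroup (Fin 2) F →* Equiv.Perm (MulAction.orbit (symplecticGroup (Fin 2) F) x) :=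
    MulAction.toPermHom _ _
  let ρ : Equiv.Perm (Fin 6) →* Equiv.Perm (MulAction.orbit (symplecticGroup (Fin 2) F) x) :=
    π.comp e.symm.toMonoidHom
  by_contra hlt
  have h6 : Nat.card (MulAction.orbit (symplecticGroup (Fin 2) F) x) ≤ 5 := by omega
  -- the alternating group acts trivially
  let ρA : alternatingGroup (Fin 6) →* Equiv.Perm (MulAction.orbit (symplecticGroup (Fin 2) F) x) := ρ.comp (alternatingGroup (Fin 6)).subtype
  have hsimple : IsSimpleGroup (alternatingGroup (Fin 6)) := alternatingGroup.isSimpleGroup (by simp)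
  have htriv : ρA.ker = ⊤ := by
    refine (hsimple.eq_bot_or_eq_top_of_normal ρA.ker inferInstance).resolve_left fun h => ?_
    have h1 := Nat.card_le_card_of_injective ρA ((MonoidHom.ker_eq_bot_iff ρA).1 h)
    rw [Nat.card_perm, nat_card_alternatingGroup] at h1
    have h3 := Nat.factorial_le h6
    simp only [Nat.card_eq_fintype_card, Fintype.card_fin] at h1 h3
    have : (Nat.factorial 6) / 2 ≤ Nat.factorial 5 := h1.trans h3
    exact absurd this (by decide)
  -- transvections are conjugate
  obtain ⟨A, hA⟩ := exists_move hb hc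
  have hconj : T c = A * T b * A⁻¹ := by rw [T_conj, hA]
  have hmem : e (T b * T c) ∈ alternatingGroup (Fin 6) := by
    rw [Equiv.Perm.mem_alternatingGroup, hconj, map_mul, map_mul, map_mul, map_inv, map_mul, map_mul, map_mul,
      map_inv]
    generalize Equiv.Perm.sign (e (T b)) = s
    generalize Equiv.Perm.sign (e A) = t
    rcases Int.units_eq_one_or s with rfl | rfl <;> rcases Int.units_eq_one_or t with rfl | rfl <;> decide
  have h1 : ρA ⟨_, hmem⟩ = 1 := MonoidHom.mem_ker.1 (htriv ▸ Subgroup.mem_top _)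
  have h3 : π (T b * T c) = 1 := by
    simpa [ρA, ρ] using h1
  exact hmv (congrArg Subtype.val (Equiv.ext_iff.1 h3 ⟨x, MulAction.mem_orbit_self x⟩))

variable {F : Type u} [Field F] [Fintype F] {r : ℕ}

local notation "W" => (Fin r ⊕ Fin r → F)
local notation "Vec" => (Fin (r + 1) ⊕ Fin (r + 1) → F)
local notation "SpW" => symplecticGroup (Fin r) F
local notation "fW" => Cfsg.sympForm r F
local notation "fV" => Cfsg.sympForm (r + 1) F

variable {Ω : Type v} [MulAction (symplecticGroup (Fin (r + 1)) F) Ω] [Fintype Ω]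

variable (h2 : Fintype.card F = 2)
include h2

/-- The set of all orbits. -/
theorem card_orbits_sum :
    Fintype.card Ω = ∑ o ∈ (Finset.univ : Finset Ω).image (orb (F := F) (r := r)), o.card := by
  rw [← Finset.card_univ, Finset.card_eq_sum_card_image (orb (F := F) (r := r)) Finset.univ]
  refine Finset.sum_congr rfl fun o ho => ?_
  obtain ⟨y, -, rfl⟩ := Finset.mem_image.1 ho
  congr 1
  ext z
  simp only [Finset.mem_filter, Finset.mem_univ, true_and]
  exact ⟨fun h => h ▸ self_mem_orb h2 z, fun h => orb_eq h2 h⟩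

/-- A transvection moves some point. -/
theorem T_moves (hnt : ∃ (g : symplecticGroup (Fin (r + 1)) F) (y : Ω), g • y ≠ y) {a : Vec} (ha : a ≠ 0) :
    ∃ y : Ω, T a • y ≠ y := by
  by_contra h
  push Not at h
  obtain ⟨g, y, hg⟩ := hnt
  refine hg ?_
  have hker : g ∈ (MulAction.toPermHom (symplecticGroup (Fin (r + 1)) F) Ω).ker := by
    refine (closure_T h2 ▸ Subgroup.closure_le _ |>.2 ?_) (Subgroup.mem_top g)
    rintro _ ⟨v, rfl⟩
    refine MonoidHom.mem_ker.2 (Equiv.ext fun z => ?_)
    show T v • z = z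
    by_cases hv : v = 0
    · rw [hv, T_zero, one_smul]
    obtain ⟨A, hA⟩ := exists_move ha hv
    rw [← hA, ← T_conj, mul_smul, mul_smul, h, smul_inv_smul]
  exact Equiv.ext_iff.1 (MonoidHom.mem_ker.1 hker) y

/-- If the smaller group fixes every orbit of the radical, some orbit is regular. -/
theorem regular_orbit (hr : 2 ≤ r) {y : Ω} (hy : beta ((0, 1) : W × F) • y ≠ y)
    (hfix : ∀ b c : W, b ≠ 0 → c ≠ 0 → fW b c = 0 →
      hat (T b * T c) • y ∈ orb (F := F) (r := r) y) :
    Fintype.card Ω ≥ 2 * 4 ^ r := by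
  have hK : ∀ p : W × F, beta p • y = y → p = 0 := by
    intro p hp
    by_contra hne
    set K := stabPar (F := F) (r := r) h2 y
    have hz : ((0, 1) : W × F) ∉ K := hy
    have inv : ∀ b c : W, b ≠ 0 → c ≠ 0 → fW b c = 0 → ∀ q ∈ K, move (T b * T c) q ∈ K := by
      intro b c hb hc hbc q hq
      have h := move_fixes h2 (g := T b * T c) ((fixes_orb h2).2 hq : fixes (orb y) q)
      rw [orb_eq h2 (hfix b c hb hc hbc)] at h
      exact (fixes_orb h2).1 h
    have hw : p.1 ≠ 0 := by
      intro h
      obtain ⟨w, l⟩ := p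
      obtain rfl : w = 0 := h
      rcases scalar_cases h2 l with rfl | rfl
      · exact hne rfl
      · exact hz hp
    -- a step
    have step : ∀ q ∈ K, ∀ b : W, fW q.1 b = 1 → (b, phi b + 1) ∈ K := by
      intro q hq b hb
      obtain ⟨c, hc1, hc0⟩ : ∃ c : W, (fW q.1 c = 0 ∧ fW b c = 0) ∧ c ≠ 0 := by
        let φ : W →ₗ[F] F × F := LinearMap.prod (sympB r F q.1) (sympB r F b)
        have hk : LinearMap.ker φ ≠ ⊥ := by
          intro hk
          have := LinearMap.finrank_le_finrank_of_injective (LinearMap.ker_eq_bot.1 hk)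
          rw [finrank_vec, Module.finrank_prod, Module.finrank_self] at this
          omega
        obtain ⟨c, hc, hc0⟩ := Submodule.exists_mem_ne_zero_of_ne_bot hk
        simp [φ, sympB_apply] at hc
        exact ⟨c, hc, hc0⟩
      have hb0 : b ≠ 0 := by rintro rfl; simp [f_zero_right] at hb
      have hg : (T b * T c) • q.1 = q.1 + b := by
        rw [mul_smul, T_smul, T_smul]
        simp [hc1.1, hb]
      have h := add_mem hq (inv b c hb0 hc0 hc1.2 q hq)
      convert h using 1
      simp only [move, hg]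
      refine Prod.ext ?_ ?_
      · show b = q.1 + (q.1 + b)
        rw [← add_assoc, vec_add_self h2, zero_add]
      · show phi b + 1 = q.2 + (q.2 + phi q.1 + phi (q.1 + b))
        rw [phi_add h2, hb]
        calc phi b + 1 = (q.2 + q.2) + (phi q.1 + phi q.1) + (phi b + 1) := by
              rw [sc_add_self h2, sc_add_self h2, zero_add, zero_add]
          _ = _ := by ring
    have all : ∀ v : W, v ≠ 0 → (v, phi v + 1) ∈ K := by
      intro v hv
      obtain ⟨z1, hz1⟩ := exists_partner hw
      obtain ⟨z2, hz2⟩ := exists_partner hv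
      obtain ⟨b, hb1, hb2⟩ : ∃ b, fW p.1 b = 1 ∧ fW v b = 1 := by
        by_cases ha : fW v z1 = 0
        · by_cases hb : fW p.1 z2 = 0
          · exact ⟨z1 + z2, by rw [f_add_right, hz1, hb, add_zero], by rw [f_add_right, ha, hz2, zero_add]⟩
          · exact ⟨z2, eq_one h2 hb, hz2⟩
        · exact ⟨z1, hz1, eq_one h2 ha⟩
      exact step _ (step p hp b hb1) v (by rw [f_comm h2, hb2])
    set a : W := Pi.single (Sum.inl ⟨0, by omega⟩) 1 with ha
    set c : W := Pi.single (Sum.inl ⟨1, by omega⟩) 1 with hc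
    have hac : a + c ≠ 0 := by
      intro h
      have := congrFun h (Sum.inl ⟨0, by omega⟩)
      simp [ha, hc, Fin.ext_iff] at this
    have hfac : fW a c = 0 := sympForm_inl_inl _ _
    have h1 := add_mem (add_mem (all a (by simp [ha])) (all c (by simp [hc]))) (all (a + c) hac)
    refine hz ?_
    convert h1 using 1
    refine Prod.ext ?_ ?_
    · exact (vec_add_self h2 (a + c)).symm
    · show (1 : F) = phi a + 1 + (phi c + 1) + (phi (a + c) + 1)
      rw [phi_add h2, hfac, add_zero]
      calc (1 : F) = (phi a + phi a) + (phi c + phi c) + ((1 + 1) + 1) := by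
            rw [sc_add_self h2 (phi a), sc_add_self h2 (phi c), sc_add_self h2 (1 : F)]; simp
        _ = _ := by ring
  have hcard : Nat.card (stabPar (F := F) (r := r) h2 y) = 1 := by
    rw [Nat.card_eq_one_iff_unique]
    exact ⟨⟨fun p q => Subtype.ext ((hK p.1 p.2).trans (hK q.1 q.2).symm)⟩, ⟨0⟩⟩
  have h := card_orb_mul (F := F) (r := r) h2 y
  rw [hcard, mul_one] at h
  rw [ge_iff_le, ← h]
  exact Finset.card_le_univ _

/-- The step of the induction. -/
theorem step_bound (hr : 2 ≤ r) (hlow : Low.{u, v} F r)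
    (hnt : ∃ (g : symplecticGroup (Fin (r + 1)) F) (y : Ω), g • y ≠ y) :
    4 ^ (r + 1) ≤ 2 * Fintype.card Ω + 2 ^ (r + 1) := by
  have e4 : 4 ^ (r + 1) = 4 * 4 ^ r := by rw [pow_succ]; ring
  have e2 : 2 ^ (r + 1) = 2 * 2 ^ r := by rw [pow_succ]; ring
  set z : W × F := ((0, 1) : W × F) with hzdef
  have hmz : ∃ y : Ω, beta z • y ≠ y := by
    obtain ⟨y, hy⟩ := T_moves h2 hnt (a0_ne (F := F) (r := r))
    exact ⟨y, by rw [hzdef, beta_top h2]; exact hy⟩
  by_cases hall : ∀ (y : Ω) (b c : W), b ≠ 0 → c ≠ 0 → fW b c = 0 →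
      hat (T b * T c) • y ∈ orb (F := F) (r := r) y
  · obtain ⟨y, hy⟩ := hmz
    have := regular_orbit h2 hr hy (hall y)
    omega
  push Not at hall
  obtain ⟨y₁, b, c, hb, hc, hbc, hmv⟩ := hall
  set O : Finset (Finset Ω) := (Finset.univ : Finset Ω).image (orb (F := F) (r := r)) with hO
  have mem_O : ∀ y : Ω, orb (F := F) (r := r) y ∈ O := fun y =>
    Finset.mem_image_of_mem _ (Finset.mem_univ y)
  -- the smaller group on the orbits
  letI act : MulAction SpW (Finset Ω) :=
    { smul := fun g o => o.image fun w => hat g • w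
      one_smul := fun o => by
        show o.image (fun w => hat (1 : SpW) • w) = o
        simp [hat_one]
      mul_smul := fun g h o => by
        show o.image (fun w => hat (g * h) • w) = (o.image fun w => hat h • w).image fun w => hat g • w
        rw [Finset.image_image]
        simp [Function.comp_def, hat_mul, mul_smul] }
  have hact : ∀ (g : SpW) (y : Ω), g • orb (F := F) (r := r) y = orb (F := F) (r := r) (hat g • y) :=
    fun g y => image_orb h2 g y
  have hd : 4 ^ r ≤ 2 * Nat.card (MulAction.orbit SpW (orb (F := F) (r := r) y₁)) + 2 ^ r := by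
    refine hlow (Finset Ω) _ ⟨b, c, hb, hc, hbc, fun h => hmv ?_⟩
    rw [hact] at h
    rw [← h]
    exact self_mem_orb h2 _
  set L : Finset (Finset Ω) := (MulAction.orbit SpW (orb (F := F) (r := r) y₁)).toFinset with hL
  have hLcard : Nat.card (MulAction.orbit SpW (orb (F := F) (r := r) y₁)) = L.card := by
    rw [hL, Set.toFinset_card, Nat.card_eq_fintype_card]
  rw [hLcard] at hd
  have hsub : L ⊆ O := by
    intro o ho
    rw [hL, Set.mem_toFinset] at ho
    obtain ⟨g, rfl⟩ := ho
    show g • _ ∈ O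
    rw [hact]
    exact mem_O _
  -- all functionals occur
  have hM : 4 ^ r ≤ (O.biUnion fun o => (uSet (F := F) (r := r) o).erase 0).card + 1 := by
    obtain ⟨a, w, ha, haw, yN, hN1, hN2⟩ : ∃ (a w : Vec), a ≠ 0 ∧ fV a w = 0 ∧ ∃ y : Ω,
        (T w * T (a + w)) • y ≠ y ∧ (T w * T (a + w)) • y ≠ T a • y := by
      have hnn := not_narrow (Ω := Ω) h2 (show 3 ≤ r + 1 by omega) hnt
      simp only [Narrow, not_forall, not_or] at hnn
      obtain ⟨a, w, ha, haw, y, h1, h3⟩ := hnn
      exact ⟨a, w, ha, haw, y, h1, h3⟩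
    obtain ⟨A, hA⟩ := exists_move ha (a0_ne (F := F) (r := r))
    obtain ⟨p, hp⟩ := exists_pair_beta h2 (v := A • w) (by rw [← hA, smul_eq, sympForm_mulVec, haw])
    have econj : A * (T w * T (a + w)) * A⁻¹ = T (A • w) * T (a0 r F + A • w) := by
      rw [smul_eq, ← T_conj, ← hA, ← Matrix.mulVec_add, ← T_conj]
      group
    have hq : ∀ y : Ω, (T w * T (a + w)) • y = A⁻¹ • beta p • A • y := by
      intro y
      rw [← hp, ← econj, ← mul_smul, ← mul_smul]
      congr 1
      group
    have hTa : ∀ y : Ω, T a • y = A⁻¹ • beta z • A • y := by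
      intro y
      rw [hzdef, beta_top h2, ← hA, ← T_conj, ← mul_smul, ← mul_smul]
      congr 1
      group
    rw [hq] at hN1
    rw [hq, hTa] at hN2
    set y := A • yN
    have h1 : beta p • y ≠ y := fun h => hN1 (by rw [h, inv_smul_smul])
    have h3 : beta p • y ≠ beta z • y := fun h => hN2 (by rw [h])
    have hD : p.1 ∉ (stabPar (F := F) (r := r) h2 y).map (LinearMap.fst F W F) := by
      rintro ⟨q, hq, hqp⟩
      replace hqp : q.1 = p.1 := hqp
      have hq' : beta q • y = y := hq
      rcases scalar_cases h2 (p.2 - q.2) with e | e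
      · refine h1 ?_
        rwa [show q = p from Prod.ext hqp (sub_eq_zero.1 e).symm] at hq'
      · refine h3 ?_
        rw [show p = z + q from Prod.ext (by simp [hzdef, hqp]) (by
          show p.2 = 1 + q.2
          rw [← e]; ring), beta_add h2, mul_smul, hq']
    obtain ⟨u₀, hu₀, hu₀p⟩ := exists_avoid hD
    have hu₀0 : u₀ ≠ 0 := by rintro rfl; exact hu₀p (f_zero_left _)
    have hu₀U : u₀ ∈ uSet (orb (F := F) (r := r) y) :=
      mem_uSet.2 fun q hq => hu₀ _ ⟨q, (fixes_orb h2).1 hq, rfl⟩
    have hsub' : (Finset.univ : Finset W).erase 0 ⊆ O.biUnion fun o => (uSet (F := F) (r := r) o).erase 0 := by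
      intro u hu
      obtain ⟨g, hg⟩ := exists_move hu₀0 (Finset.ne_of_mem_erase hu)
      refine Finset.mem_biUnion.2 ⟨orb (hat g • y), mem_O _, Finset.mem_erase.2 ⟨Finset.ne_of_mem_erase hu, ?_⟩⟩
      rw [← hg, ← smul_eq]
      exact uSet_move h2 hu₀U
    have := Finset.card_le_card hsub'
    rw [Finset.card_erase_of_mem (Finset.mem_univ _), Finset.card_univ, card_vec h2] at this
    omega
  have hU : O.card + (O.biUnion fun o => (uSet (F := F) (r := r) o).erase 0).card ≤
      ∑ o ∈ O, (uSet (F := F) (r := r) o).card := by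
    refine le_trans (Nat.add_le_add_left Finset.card_biUnion_le _) (le_of_eq ?_)
    rw [Finset.card_eq_sum_ones, ← Finset.sum_add_distrib]
    refine Finset.sum_congr rfl fun o _ => ?_
    rw [add_comm]
    exact Finset.card_erase_add_one (zero_mem_uSet o)
  have hsum := card_orbits_sum (F := F) (r := r) (Ω := Ω) h2
  rw [← hO] at hsum
  by_cases hmore : ∃ y : Ω, orb (F := F) (r := r) y ∉ L
  · -- more than one orbit of the smaller group
    obtain ⟨y, hy⟩ := hmore
    have hd' : L.card + 1 ≤ O.card := by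
      have := Finset.card_le_card (Finset.insert_subset (mem_O y) hsub)
      rwa [Finset.card_insert_of_notMem hy] at this
    obtain ⟨yz, hyz⟩ := hmz
    obtain ⟨u₁, hu₁⟩ : (phSet (F := F) (r := r) (orb (F := F) (r := r) yz)).Nonempty := by
      rw [← Finset.card_pos, ((card_orb h2 yz).2.2 hyz), Finset.card_pos]
      exact ⟨0, zero_mem_uSet _⟩
    have hB : 4 ^ r ≤ 2 * (O.biUnion fun o => phSet (F := F) (r := r) o).card + 2 ^ r := by
      have h := zeros_ge (m := r) h2 u₁
      have hsub'' : ((Finset.univ : Finset W).filter fun v => phiU u₁ v = 0).image (fun v => u₁ + v) ⊆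
          O.biUnion fun o => phSet (F := F) (r := r) o := by
        intro u hu
        obtain ⟨v, hv, rfl⟩ := Finset.mem_image.1 hu
        exact Finset.mem_biUnion.2 ⟨_, mem_O _, phSet_move h2 (Finset.mem_filter.1 hv).2 hu₁⟩
      have h3 := Finset.card_le_card hsub''
      rw [Finset.card_image_of_injective _ (add_right_injective u₁)] at h3
      rw [Nat.card_eq_fintype_card, Fintype.card_subtype] at h
      omega
    have hPh : (O.biUnion fun o => phSet (F := F) (r := r) o).card ≤ ∑ o ∈ O, (phSet (F := F) (r := r) o).card :=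
      Finset.card_biUnion_le
    have hn : Fintype.card Ω = ∑ o ∈ O, (uSet (F := F) (r := r) o).card + ∑ o ∈ O, (phSet (F := F) (r := r) o).card := by
      rw [hsum, ← Finset.sum_add_distrib]
      refine Finset.sum_congr rfl fun o ho => ?_
      obtain ⟨w, -, rfl⟩ := Finset.mem_image.1 ho
      exact (card_orb h2 w).1
    omega
  · -- one orbit, on which the transvection at `a` is free
    push Not at hmore
    have hfree : ∀ y : Ω, beta z • y ≠ y := by
      intro y hy
      obtain ⟨yz, hyz⟩ := hmz
      have m1 := hmore y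
      have m2 := hmore yz
      rw [hL, Set.mem_toFinset] at m1 m2
      obtain ⟨g, hg⟩ := (MulAction.orbit_eq_iff.2 m1).symm ▸ m2
      replace hg : g • orb (F := F) (r := r) y = orb (F := F) (r := r) yz := hg
      rw [hact] at hg
      refine hyz ?_
      have h := move_fixes h2 (g := g) ((fixes_orb h2).2 hy : fixes (orb y) z)
      rw [hg, fixes_orb h2] at h
      convert h using 3
      simp [move, hzdef, phi_zero]
    have hn : Fintype.card Ω = 2 * ∑ o ∈ O, (uSet (F := F) (r := r) o).card := by
      rw [hsum, Finset.mul_sum]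
      refine Finset.sum_congr rfl fun o ho => ?_
      obtain ⟨w, -, rfl⟩ := Finset.mem_image.1 ho
      rw [(card_orb h2 w).1, (card_orb h2 w).2.2 (hfree w)]
      ring
    have hd' : L.card ≤ O.card := Finset.card_le_card hsub
    have h16 : 2 ≤ 4 ^ r := by
      calc 2 ≤ 4 ^ 1 := by norm_num
        _ ≤ 4 ^ r := Nat.pow_le_pow_right (by norm_num) (by omega)
    omega

omit h2 in
theorem low_all (F : Type u) [Field F] [Fintype F] (h2 : Fintype.card F = 2) :
    ∀ m, 2 ≤ m → Low.{u, v} F m := by
  intro m hm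
  induction m, hm using Nat.le_induction with
  | base => exact low_two F h2
  | succ r hr ih =>
    intro X _ _ x hx
    obtain ⟨b, c, -, -, -, hmv⟩ := hx
    haveI : Fintype (MulAction.orbit (symplecticGroup (Fin (r + 1)) F) x) := Fintype.ofFinite _
    rw [Nat.card_eq_fintype_card]
    exact step_bound (Ω := MulAction.orbit (symplecticGroup (Fin (r + 1)) F) x) h2 hr ih
      ⟨T b * T c, ⟨x, MulAction.mem_orbit_self x⟩, fun h => hmv (congrArg Subtype.val h)⟩

end Cfsg.Agent.MinIndexSp
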